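import Groth.Agent.H14GerbeCoh.Field
import Groth.Agent.H14AlgSt.Points
import Groth.Agent.H13AlgSp.Refinement
import Groth.Agent.H14Gerbe.AlgGerbe
import Groth.Prelude.Def_AlgSp3

/-!
# The universal automorphism of an object of a stack with finite inertia
-/

set_option autoImplicit false
set_option backward.isDefEq.respectTransparency false
set_option backward.isDefEq.respectTransparency.types false

universe u

open CategoryTheory CategoryTheory.Functor CategoryTheory.Limits AlgebraicGeometry Opposite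

noncomputable section

namespace Groth.Agent.H14GerbeCoh

open H14Fib H14Stk H14AlgSt

variable {S : Scheme.{u}} {𝒢 : AlgSt.Cat S}

/-- Being vertical. -/
def IsVert {a b : 𝒢.obj} (θ : a ⟶ b) : Prop := ∃ h : 𝒢.p.obj a = 𝒢.p.obj b, 𝒢.p.map θ = eqToHom h

lemma IsVert.homLift {a b : 𝒢.obj} {θ : a ⟶ b} (h : IsVert θ) :
    𝒢.p.IsHomLift (𝟙 (𝒢.p.obj a)) θ := by
  obtain ⟨e, he⟩ := h
  exact IsHomLift.of_fac' 𝒢.p _ θ rfl e.symm (by simp [he])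

lemma isVert_of_homLift {a b : 𝒢.obj} {θ : a ⟶ b} {T : Over S} (h : 𝒢.p.IsHomLift (𝟙 T) θ) :
    IsVert θ :=
  ⟨(IsHomLift.domain_eq 𝒢.p (𝟙 T) θ).trans (IsHomLift.codomain_eq 𝒢.p (𝟙 T) θ).symm, by
    rw [IsHomLift.fac' 𝒢.p (𝟙 T) θ]; simp⟩

lemma isVert_endo_iff {a : 𝒢.obj} {θ : a ⟶ a} : IsVert θ ↔ 𝒢.p.map θ = 𝟙 _ :=
  ⟨fun ⟨_, e⟩ => e.trans (eqToHom_refl _ _), fun e => ⟨rfl, e.trans (eqToHom_refl _ _).symm⟩⟩

/-- Factorisation through a morphism, over a given morphism of the base. -/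
lemma exists_hom_over (hp : FibCat.IsFibGrpd 𝒢.p) {a b c : 𝒢.obj} (φ : b ⟶ c) (ψ : a ⟶ c)
    (g : 𝒢.p.obj a ⟶ 𝒢.p.obj b) (h : g ≫ 𝒢.p.map φ = 𝒢.p.map ψ) :
    ∃ χ : a ⟶ b, 𝒢.p.map χ = g ∧ χ ≫ φ = ψ := by
  have := hp.isStronglyCartesian φ
  obtain ⟨χ, ⟨hχ, hχ'⟩, -⟩ := IsStronglyCartesian.universal_property 𝒢.p (𝒢.p.map φ) φ g
    (𝒢.p.map ψ) h.symm ψ
  exact ⟨χ, (IsHomLift.eq_of_isHomLift 𝒢.p g χ).symm, hχ'⟩

lemma hom_over_ext (hp : FibCat.IsFibGrpd 𝒢.p) {a b c : 𝒢.obj} (φ : b ⟶ c) {χ χ' : a ⟶ b}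
    (h : 𝒢.p.map χ = 𝒢.p.map χ') (h' : χ ≫ φ = χ' ≫ φ) : χ = χ' := by
  have := hp.isStronglyCartesian φ
  have h1 : 𝒢.p.IsHomLift (𝒢.p.map χ') χ := h ▸ IsHomLift.map 𝒢.p χ
  have h2 : 𝒢.p.IsHomLift (𝒢.p.map χ') χ' := IsHomLift.map 𝒢.p χ'
  exact IsStronglyCartesian.ext 𝒢.p (𝒢.p.map φ) φ (𝒢.p.map χ') h'

/-- Pullback of an object. -/
lemma exists_pullObj (hp : FibCat.IsFibGrpd 𝒢.p) (x : 𝒢.obj) {T : Over S} (f : T ⟶ 𝒢.p.obj x) :
    ∃ (y : 𝒢.obj) (φ : y ⟶ x) (e : 𝒢.p.obj y = T), 𝒢.p.map φ = eqToHom e ≫ f := by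
  obtain ⟨y, φ, hφ⟩ := exists_sc_lift hp (a := x) rfl f
  exact ⟨y, φ, IsHomLift.domain_eq 𝒢.p f φ, by rw [IsHomLift.fac' 𝒢.p f φ]; simp⟩

/-- The universal automorphism of pullbacks of `x`. -/
structure UnivAut (x : 𝒢.obj) where
  /-- the object -/
  pt : 𝒢.obj
  /-- the projection -/
  proj : pt ⟶ x
  /-- the automorphism -/
  aut : pt ⟶ pt
  aut_vert : IsVert aut
  isFinite : IsFinite (𝒢.p.obj x).hom → IsFinite (𝒢.p.obj pt).hom
  exists_lift {η : 𝒢.obj} (v : η ⟶ x) (θ : η ⟶ η) (hθ : IsVert θ) :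
    ∃ χ : η ⟶ pt, χ ≫ proj = v ∧ θ ≫ χ = χ ≫ aut
  lift_unique {η : 𝒢.obj} (θ : η ⟶ η) (hθ : IsVert θ) (χ χ' : η ⟶ pt)
    (h : χ ≫ proj = χ' ≫ proj) (hc : θ ≫ χ = χ ≫ aut) (hc' : θ ≫ χ' = χ' ≫ aut) : χ = χ'

theorem exists_univAut (h𝒢 : FibCat.IsFibGrpd 𝒢.p)
    (hI : AlgSt.RepByAlgSpWith AlgSp.IsFiniteMor (FibCat.inertiaToBase (FibCat.toSelf 𝒢)))
    (x : 𝒢.obj) (hx : IsAffine (𝒢.p.obj x).left) : Nonempty (UnivAut x) := by
  let I := FibCat.inertiaToBase (FibCat.toSelf 𝒢)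
  let U := 𝒢.p.obj x
  have := isFibered_of_fibGrpd h𝒢
  obtain ⟨Xf, e, -, he⟩ := exists_fromOver (U := U) (x := x) rfl
  obtain ⟨F, e', he', hfin⟩ := hI U Xf
  obtain ⟨W, i, fst, hpb, -, hi⟩ := hfin (Z := U) hx (𝟙 _)
  have : IsIso fst := hpb.isIso_fst_of_isIso
  let a : (AlgSp.yon S).obj W ⟶ F.obj := fst
  have : IsIso a.hom := (inferInstance : IsIso ((sheafToPresheaf _ _).map a))
  let E : FibCat.overCat W ⥤ᵇ FibCat.fp Xf I :=
    BasedFunctor.comp (BasedFunctor.comp (AlgSt.ofOverCat W) (AlgSt.ofSpMap a)) e'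
  have hE : FibCat.IsEquivOver E :=
    isEquivOver_comp (isEquivOver_comp (ofOverCat_isEquivOver W) (isEquivOver_ofPshMap a.hom)) he'
  obtain ⟨⟨⟨hfull⟩, ⟨hfaith⟩⟩, hess⟩ := (isEquivOver_iff E).1 hE
  let z₁ := E.obj (topObj W)
  let t₁ : (FibCat.overCat U).obj := z₁.obj.fst
  have hWz : t₁.left = W := E.w_obj (topObj W)
  let A : 𝒢.obj := z₁.obj.snd.pt
  have hA : 𝒢.p.obj A = t₁.left := fp_snd_obj z₁
  let π : A ⟶ x := z₁.obj.iso.inv ≫ Xf.map (toTop t₁) ≫ e.hom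
  have hemap : 𝒢.p.map e.hom = eqToHom (Xf.w_obj (topObj U)) := by
    rw [IsHomLift.fac' 𝒢.p (𝟙 U) e.hom]; simp
  have hXmap : ∀ {s s' : (FibCat.overCat U).obj} (m : s ⟶ s'),
      𝒢.p.map (Xf.map m) = eqToHom (Xf.w_obj s) ≫ m.left ≫ eqToHom (Xf.w_obj s').symm := fun m =>
    Functor.congr_hom Xf.w m
  have hzmap : ∀ z : (FibCat.fp Xf I).obj, ∃ h,
      𝒢.p.map z.obj.iso.hom = eqToHom (Y := 𝒢.p.obj z.obj.snd.pt) h := by
    intro z
    have hz : 𝒢.p.IsHomLift (𝟙 (z.obj.fst : Over U).left) z.obj.iso.hom := z.property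
    obtain ⟨h, hh⟩ := isVert_of_homLift hz
    exact ⟨h, hh⟩
  obtain ⟨hzo, hz₁⟩ := hzmap z₁
  have hπ : 𝒢.p.map π = eqToHom hA ≫ t₁.hom := by
    have h1 : 𝒢.p.map z₁.obj.iso.inv = eqToHom (hA.trans (Xf.w_obj t₁).symm) := by
      rw [← cancel_mono (𝒢.p.map z₁.obj.iso.hom), ← 𝒢.p.map_comp, z₁.obj.iso.inv_hom_id,
        𝒢.p.map_id, hz₁, eqToHom_trans, eqToHom_refl]
    simp [π, h1, hXmap, hemap, toTop]
  have hfin' : IsFinite U.hom → IsFinite (𝒢.p.obj A).hom := by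
    intro hU
    have hW : IsFinite W.hom := by rw [← Over.w i]; infer_instance
    rw [← Over.w (eqToHom (hA.trans hWz))]
    infer_instance
  refine ⟨⟨A, π, z₁.obj.snd.aut.hom, ?_, hfin', ?_, ?_⟩⟩
  · have h := z₁.obj.snd.map_aut
    exact isVert_endo_iff.2 h
  · intro η v θ hθ
    have : IsIso θ := by
      have : IsIso (𝒢.p.map θ) := by rw [isVert_endo_iff.1 hθ]; infer_instance
      exact isIso_of_map_isIso h𝒢 θ
    let s : (FibCat.overCat U).obj := Over.mk (𝒢.p.map v)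
    obtain ⟨c, hc, hc'⟩ := exists_hom_over h𝒢 v (Xf.map (toTop s) ≫ e.hom)
      (eqToHom (Xf.w_obj s)) (by simp [hXmap, hemap, toTop, s])
    have : IsIso c := by
      have : IsIso (𝒢.p.map c) := by rw [hc]; infer_instance
      exact isIso_of_map_isIso h𝒢 c
    let P : FibCat.InertiaObj (FibCat.toSelf 𝒢) :=
      ⟨η, asIso θ, isVert_endo_iff.1 hθ⟩
    let z : (FibCat.fp Xf I).obj :=
      ⟨{ fst := s, snd := P, iso := asIso c }, by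
        change 𝒢.p.IsHomLift (𝟙 (𝒢.p.obj η)) c
        exact IsHomLift.of_fac' 𝒢.p _ c (Xf.w_obj s) rfl (by rw [hc]; simp)⟩
    obtain ⟨ξ, q, -⟩ := hess z
    let m : z ⟶ z₁ := q.inv ≫ E.map (toTop ξ)
    refine ⟨m.hom.snd.hom, ?_, m.hom.snd.comm⟩
    have hw : Xf.map m.hom.fst ≫ z₁.obj.iso.hom = c ≫ m.hom.snd.hom := m.hom.w
    have : m.hom.snd.hom = inv c ≫ Xf.map m.hom.fst ≫ z₁.obj.iso.hom := by
      rw [hw, IsIso.inv_hom_id_assoc]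
    rw [this]
    simp only [π, Category.assoc, Iso.hom_inv_id_assoc]
    rw [IsIso.inv_comp_eq, ← Category.assoc, ← Xf.toFunctor.map_comp, toTop_comp]
    exact hc'.symm
  · intro η θ hθ χ χ' h hc hc'
    have : IsIso θ := by
      have : IsIso (𝒢.p.map θ) := by rw [isVert_endo_iff.1 hθ]; infer_instance
      exact isIso_of_map_isIso h𝒢 θ
    let v := χ ≫ π
    let s : (FibCat.overCat U).obj := Over.mk (𝒢.p.map v)
    obtain ⟨c, hc0, hc0'⟩ := exists_hom_over h𝒢 v (Xf.map (toTop s) ≫ e.hom)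
      (eqToHom (Xf.w_obj s)) (by simp [hXmap, hemap, toTop, s])
    have : IsIso c := by
      have : IsIso (𝒢.p.map c) := by rw [hc0]; infer_instance
      exact isIso_of_map_isIso h𝒢 c
    let P : FibCat.InertiaObj (FibCat.toSelf 𝒢) :=
      ⟨η, asIso θ, isVert_endo_iff.1 hθ⟩
    let z : (FibCat.fp Xf I).obj :=
      ⟨{ fst := s, snd := P, iso := asIso c }, by
        change 𝒢.p.IsHomLift (𝟙 (𝒢.p.obj η)) c
        exact IsHomLift.of_fac' 𝒢.p _ c (Xf.w_obj s) rfl (by rw [hc0]; simp)⟩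
    have hmor : ∀ (κ : η ⟶ A), κ ≫ π = v → θ ≫ κ = κ ≫ z₁.obj.snd.aut.hom →
        ∃ m : z ⟶ z₁, m.hom.snd.hom = κ := by
      intro κ hκ hκ'
      let b : s ⟶ t₁ := Over.homMk (𝒢.p.map κ ≫ eqToHom hA) (by
        have := congrArg 𝒢.p.map hκ
        rw [𝒢.p.map_comp, hπ] at this
        simpa [s] using this)
      refine ⟨fpHom b ⟨κ, hκ'⟩ ?_, rfl⟩
      change Xf.map b ≫ z₁.obj.iso.hom = c ≫ κ
      refine hom_over_ext h𝒢 π ?_ ?_
      · simp [hXmap, hz₁, hc0, b]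
      · simp only [π, Category.assoc, Iso.hom_inv_id_assoc]
        rw [← Category.assoc, ← Xf.toFunctor.map_comp, toTop_comp, ← hc0']
        exact congrArg (c ≫ ·) hκ.symm
    obtain ⟨m, hm⟩ := hmor χ rfl hc
    obtain ⟨m', hm'⟩ := hmor χ' h.symm hc'
    obtain ⟨ξ, q, -⟩ := hess z
    have : m = m' := by
      rw [← cancel_epi q.hom]
      obtain ⟨d, hd⟩ := hfull (q.hom ≫ m)
      obtain ⟨d', hd'⟩ := hfull (q.hom ≫ m')
      rw [← hd, ← hd']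
      exact congrArg _ (Over.OverMorphism.ext (((Category.comp_id _).symm.trans (Over.w d)).trans
        ((Over.w d').symm.trans (Category.comp_id _))))
    rw [← hm, ← hm', this]

end Groth.Agent.H14GerbeCoh
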