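import Groth.Agent.H14GerbeCoh.Hom

/-!
# Cocycles with values in an injective sheaf are coboundaries
-/

set_option autoImplicit false
set_option backward.isDefEq.respectTransparency false
set_option backward.isDefEq.respectTransparency.types false

universe u

open CategoryTheory CategoryTheory.Limits AlgebraicGeometry Opposite

noncomputable section

namespace Groth.Agent.H14GerbeCoh

variable {S₀ : Scheme.{u}} {𝒢 : AlgSt.Cat S₀} {K : Precoverage Scheme.{u}}

/-- A natural cocycle on pairs of arrows into `x` with values in an injective sheaf is a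
coboundary. -/
theorem exists_primitive (I : StCoh.Ab K 𝒢) [Injective I] (x : 𝒢.obj)
    (d : ∀ ξ : 𝒢.obj, (ξ ⟶ x) → (ξ ⟶ x) → sec I ξ)
    (hn : ∀ ξ η (f : η ⟶ ξ) a b, res I f (d ξ a b) = d η (f ≫ a) (f ≫ b))
    (hc : ∀ ξ a b e, d ξ a b + d ξ b e = d ξ a e) :
    ∃ t : sec I x, ∀ ξ a b, res I a t - res I b t = d ξ a b := by
  classical
  have : Injective I.obj := injective_obj I
  let Hm : 𝒢.objᵒᵖ → Type (u + 1) := fun ξ => ULift.{u + 1} (ξ.unop ⟶ x)
  let P : 𝒢.objᵒᵖ ⥤ AddCommGrpCat.{u + 1} :=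
    { obj := fun ξ => AddCommGrpCat.of (FreeAbelianGroup (Hm ξ))
      map := fun {ξ η} f => AddCommGrpCat.ofHom
        (FreeAbelianGroup.map fun a : Hm ξ => (⟨f.unop ≫ a.down⟩ : Hm η))
      map_id := fun ξ => by
        apply AddCommGrpCat.hom_ext
        refine FreeAbelianGroup.lift_ext _ _ fun a => ?_
        exact (FreeAbelianGroup.map_of_apply a).trans (by simp; rfl)
      map_comp := fun {ξ η ζ} f g => by
        apply AddCommGrpCat.hom_ext
        refine FreeAbelianGroup.lift_ext _ _ fun a => ?_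
        refine (FreeAbelianGroup.map_of_apply a).trans ?_
        change _ = FreeAbelianGroup.map _ (FreeAbelianGroup.map _ (FreeAbelianGroup.of a))
        simp }
  let aug : ∀ ξ, FreeAbelianGroup (Hm ξ) →+ ℤ := fun ξ => FreeAbelianGroup.lift fun _ => (1 : ℤ)
  have haug : ∀ ξ η (f : ξ ⟶ η) (z : FreeAbelianGroup (Hm ξ)),
      aug η ((P.map f).hom z) = aug ξ z := fun ξ η f z =>
    DFunLike.congr_fun (FreeAbelianGroup.lift_ext ((aug η).comp (P.map f).hom) (aug ξ)
      fun a => by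
        change aug η (FreeAbelianGroup.map _ (FreeAbelianGroup.of a)) = _
        simp [aug]) z
  let Z : 𝒢.objᵒᵖ ⥤ AddCommGrpCat.{u + 1} :=
    { obj := fun ξ => AddCommGrpCat.of ((aug ξ).ker)
      map := fun {ξ η} f => AddCommGrpCat.ofHom
        (((P.map f).hom.comp (aug ξ).ker.subtype).codRestrict (aug η).ker
          fun z => (haug ξ η f z.1).trans z.2)
      map_id := fun ξ => by
        ext z
        exact ConcreteCategory.congr_hom (P.map_id ξ) z.1
      map_comp := fun {ξ η ζ} f g => by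
        ext z
        exact ConcreteCategory.congr_hom (P.map_comp f g) z.1 }
  let ι : Z ⟶ P :=
    { app := fun ξ => AddCommGrpCat.ofHom (aug ξ).ker.subtype
      naturality := fun _ _ _ => rfl }
  have : ∀ ξ, Mono (ι.app ξ) := fun ξ =>
    (AddCommGrpCat.mono_iff_injective _).2 (fun _ _ h => Subtype.ext h)
  have : Mono ι := NatTrans.mono_of_mono_app ι
  let L : ∀ ξ : 𝒢.objᵒᵖ, (ξ.unop ⟶ x) → (FreeAbelianGroup (Hm ξ) →+ sec I ξ.unop) := fun ξ a₀ =>
    FreeAbelianGroup.lift fun a : Hm ξ => d ξ.unop a.down a₀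
  have hL : ∀ ξ (a₀ a₁ : ξ.unop ⟶ x) (z : FreeAbelianGroup (Hm ξ)),
      L ξ a₁ z = L ξ a₀ z + aug ξ z • d ξ.unop a₀ a₁ := fun ξ a₀ a₁ z =>
    DFunLike.congr_fun (FreeAbelianGroup.lift_ext (L ξ a₁)
      (L ξ a₀ + ((zmultiplesHom _ (d ξ.unop a₀ a₁)).comp (aug ξ))) fun a => by
        change L ξ a₁ _ = L ξ a₀ _ + aug ξ _ • d ξ.unop a₀ a₁
        simp only [L, aug, FreeAbelianGroup.lift_apply_of]
        rw [one_zsmul, hc]) z
  let φ₀ : ∀ ξ : 𝒢.objᵒᵖ, ((aug ξ).ker →+ sec I ξ.unop) := fun ξ =>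
    if h : Nonempty (ξ.unop ⟶ x) then (L ξ h.some).comp (aug ξ).ker.subtype else 0
  have hφ : ∀ ξ (a₀ : ξ.unop ⟶ x) (z : (aug ξ).ker), φ₀ ξ z = L ξ a₀ z.1 := by
    intro ξ a₀ z
    have h : Nonempty (ξ.unop ⟶ x) := ⟨a₀⟩
    have hz : aug ξ z.1 = 0 := z.2
    simp only [φ₀, dif_pos h]
    change L ξ h.some z.1 = _
    rw [hL ξ a₀ h.some z.1, hz, zero_zsmul, add_zero]
  let Φ : Z ⟶ I.obj :=
    { app := fun ξ => AddCommGrpCat.ofHom (φ₀ ξ)
      naturality := fun ξ η f => by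
        ext z
        change φ₀ η ((Z.map f).hom z) = (I.obj.map f).hom (φ₀ ξ z)
        by_cases h : Nonempty (ξ.unop ⟶ x)
        · obtain ⟨a₀⟩ := h
          rw [hφ ξ a₀, hφ η (f.unop ≫ a₀)]
          exact DFunLike.congr_fun (FreeAbelianGroup.lift_ext
            ((L η (f.unop ≫ a₀)).comp (P.map f).hom) ((I.obj.map f).hom.comp (L ξ a₀)) fun a => by
              change L η (f.unop ≫ a₀) (FreeAbelianGroup.map _ (FreeAbelianGroup.of a)) =
                res I f.unop (L ξ a₀ (FreeAbelianGroup.of a))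
              simp only [L, FreeAbelianGroup.map_of_apply, FreeAbelianGroup.lift_apply_of, hn]) z.1
        · have : IsEmpty (Hm ξ) := ⟨fun a => h ⟨a.down⟩⟩
          have hz : z = 0 := Subtype.ext (Subsingleton.elim _ _)
          subst hz
          simp }
  let t' : P ⟶ I.obj := Injective.factorThru Φ ι
  have ht' : ι ≫ t' = Φ := Injective.comp_factorThru Φ ι
  let gen : ∀ ξ : 𝒢.obj, (ξ ⟶ x) → sec I ξ := fun ξ a =>
    (t'.app (op ξ)).hom (FreeAbelianGroup.of (⟨a⟩ : Hm (op ξ)))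
  have hgen : ∀ ξ (a : ξ ⟶ x), res I a (gen x (𝟙 x)) = gen ξ a := by
    intro ξ a
    refine (ConcreteCategory.congr_hom (t'.naturality a.op) _).symm.trans ?_
    change (t'.app (op ξ)).hom (FreeAbelianGroup.map _ (FreeAbelianGroup.of _)) = _
    simp [gen]
  refine ⟨gen x (𝟙 x), fun ξ a b => ?_⟩
  rw [hgen, hgen, ← map_sub]
  have hz : aug (op ξ) (FreeAbelianGroup.of (⟨a⟩ : Hm (op ξ)) -
      FreeAbelianGroup.of (⟨b⟩ : Hm (op ξ))) = 0 := by simp [aug]
  refine (ConcreteCategory.congr_hom (congrArg (fun m => NatTrans.app m (op ξ)) ht')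
    (⟨_, hz⟩ : (aug (op ξ)).ker)).trans ?_
  change φ₀ (op ξ) _ = _
  rw [hφ (op ξ) b]
  simp only [map_sub, L, FreeAbelianGroup.lift_apply_of]
  have h := hc ξ b b b
  rw [add_eq_left] at h
  rw [h, sub_zero]


end Groth.Agent.H14GerbeCoh
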