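import Groth.Agent.H14Gerbe.LocLift
import Groth.Agent.H13AlgSp.Refinement
import Mathlib.AlgebraicGeometry.AlgClosed.Basic
import Mathlib.FieldTheory.SplittingField.Construction
import Mathlib.FieldTheory.IsAlgClosed.AlgebraicClosure

/-!
# Finite points over a field and rigidity of maps from reduced schemes
-/

set_option autoImplicit false
set_option backward.isDefEq.respectTransparency false
set_option backward.isDefEq.respectTransparency.types false

universe u

open CategoryTheory CategoryTheory.Limits AlgebraicGeometry TopologicalSpace Polynomial Opposite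

noncomputable section

namespace Groth.Agent.H14GerbeCoh

variable {k : Type u} [Field k]

/-- The base. -/
local notation "S₀" => Spec (CommRingCat.of k)

/-- A finite field extension of `k`, as an object over the base. -/
def IsFinPt (T : Over (Spec (CommRingCat.of k))) : Prop :=
  (∃ (L : Type u) (_ : Field L), Nonempty (T.left ≅ Spec (CommRingCat.of L))) ∧ IsFinite T.hom

/-- An algebraically closed point. -/
def IsACPt (T : Over (Spec (CommRingCat.of k))) : Prop :=
  ∃ (L : Type u) (_ : Field L), IsAlgClosed L ∧ Nonempty (T.left ≅ Spec (CommRingCat.of L))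

variable {T U V P : Over (Spec (CommRingCat.of k))}

lemma subsingleton_of_field {X : Scheme.{u}} {L : Type u} [Field L]
    (e : X ≅ Spec (CommRingCat.of L)) : Subsingleton X ∧ Nonempty X := by
  have h := (Scheme.homeoOfIso e)
  exact ⟨h.toEquiv.subsingleton, ⟨h.symm (IsLocalRing.closedPoint L)⟩⟩

lemma IsFinPt.subsingleton (h : IsFinPt T) : Subsingleton T.left :=
  let ⟨⟨_, _, ⟨e⟩⟩, _⟩ := h
  (subsingleton_of_field e).1

lemma IsFinPt.nonempty (h : IsFinPt T) : Nonempty T.left :=
  let ⟨⟨_, _, ⟨e⟩⟩, _⟩ := h
  (subsingleton_of_field e).2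

lemma IsACPt.subsingleton (h : IsACPt T) : Subsingleton T.left :=
  let ⟨_, _, _, ⟨e⟩⟩ := h
  (subsingleton_of_field e).1

lemma IsACPt.nonempty (h : IsACPt T) : Nonempty T.left :=
  let ⟨_, _, _, ⟨e⟩⟩ := h
  (subsingleton_of_field e).2

lemma IsACPt.isReduced (h : IsACPt T) : IsReduced T.left :=
  let ⟨_, _, _, ⟨e⟩⟩ := h
  isReduced_of_isOpenImmersion e.hom

lemma lft_of_isFinPt (h : IsFinPt T) : LocallyOfFiniteType T.hom :=
  have := h.2
  inferInstance

/-- A nonempty scheme locally of finite type over `k` has a finite point. -/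
lemma exists_finPt_hom [LocallyOfFiniteType U.hom] (hne : Nonempty U.left) :
    ∃ (T : Over (Spec (CommRingCat.of k))) (_ : T ⟶ U), IsFinPt T := by
  have : JacobsonSpace U.left := LocallyOfFiniteType.jacobsonSpace U.hom
  obtain ⟨x, -, hx⟩ := nonempty_inter_closedPoints (X := U.left) (Z := Set.univ)
    ⟨hne.some, trivial⟩ isClosed_univ.isLocallyClosed
  have hx' : IsClosed {x} := hx
  have := isClosed_singleton_iff_isClosedImmersion.mp hx'
  have : IsFinite (U.left.fromSpecResidueField x ≫ U.hom) :=
    isFinite_iff_locallyOfFiniteType_of_jacobsonSpace.mpr inferInstance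
  exact ⟨Over.mk (U.left.fromSpecResidueField x ≫ U.hom),
    Over.homMk (U.left.fromSpecResidueField x) rfl,
    ⟨_, (inferInstance : Field (U.left.residueField x)), ⟨Iso.refl _⟩⟩, this⟩

/-- Over an algebraically closed point, a morphism locally of finite type has a section through
some point of any nonempty fibre. -/
lemma exists_section_of_isACPt (hT : IsACPt T) (c : U ⟶ T) [LocallyOfFiniteType c.left]
    (hne : Nonempty U.left) : ∃ s : T ⟶ U, s ≫ c = 𝟙 T := by
  obtain ⟨L, hL, hL', ⟨e⟩⟩ := hT
  let f : U.left ⟶ Spec (CommRingCat.of L) := c.left ≫ e.hom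
  have : JacobsonSpace U.left := LocallyOfFiniteType.jacobsonSpace f
  obtain ⟨x, -, hx⟩ := nonempty_inter_closedPoints (X := U.left) (Z := Set.univ)
    ⟨hne.some, trivial⟩ isClosed_univ.isLocallyClosed
  have hs := pointOfClosedPoint_comp f x hx
  refine ⟨Over.homMk (e.hom ≫ pointOfClosedPoint f x hx) ?_, Over.OverMorphism.ext ?_⟩
  · have : pointOfClosedPoint f x hx ≫ U.hom = e.inv ≫ T.hom := by
      have : pointOfClosedPoint f x hx ≫ c.left = e.inv := by
        rw [← cancel_mono e.hom, e.inv_hom_id, Category.assoc]; exact hs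
      rw [← Over.w c, ← Category.assoc, this]
    simp [this]
  · change (e.hom ≫ pointOfClosedPoint f x hx) ≫ c.left = 𝟙 _
    rw [← cancel_mono e.hom, Category.assoc, Category.assoc]
    change e.hom ≫ pointOfClosedPoint f x hx ≫ f = _
    rw [hs]; simp

/-- A point of a scheme under an algebraically closed point, through a given member of a covering. -/
lemma exists_factor_of_isACPt (hT : IsACPt T) (φ : T ⟶ U) (c : V ⟶ U) [LocallyOfFiniteType c.left]
    (hφ : ∀ t : T.left, φ.left t ∈ Set.range c.left) : ∃ s : T ⟶ V, s ≫ c = φ := by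
  obtain ⟨t⟩ := hT.nonempty
  obtain ⟨v, hv⟩ := hφ t
  let W : Over (Spec (CommRingCat.of k)) := Over.mk (pullback.fst φ.left c.left ≫ T.hom)
  let p : W ⟶ T := Over.homMk (pullback.fst φ.left c.left) rfl
  obtain ⟨w, -, -⟩ := Scheme.Pullback.exists_preimage_pullback t v hv.symm
  have : LocallyOfFiniteType p.left := MorphismProperty.pullback_fst φ.left c.left inferInstance
  obtain ⟨s, hs⟩ := exists_section_of_isACPt hT p ⟨w⟩
  refine ⟨Over.homMk (s.left ≫ pullback.snd φ.left c.left) ?_, Over.OverMorphism.ext ?_⟩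
  · have h1 : s.left ≫ pullback.fst φ.left c.left = 𝟙 _ := congrArg CommaMorphism.left hs
    rw [Category.assoc]
    change s.left ≫ pullback.snd φ.left c.left ≫ V.hom = _
    rw [← Over.w c, ← pullback.condition_assoc, Over.w φ]
    exact (reassoc_of% h1) T.hom
  · have h1 : s.left ≫ pullback.fst φ.left c.left = 𝟙 _ := congrArg CommaMorphism.left hs
    change (s.left ≫ pullback.snd φ.left c.left) ≫ c.left = φ.left
    rw [Category.assoc, ← pullback.condition, ← Category.assoc, h1, Category.id_comp]

/-- A geometric point over a given point. -/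
lemma exists_acPt_hom (u : U.left) :
    ∃ (T : Over (Spec (CommRingCat.of k))) (a : T ⟶ U), IsACPt T ∧ ∀ t : T.left, a.left t = u := by
  let L := AlgebraicClosure (U.left.residueField u)
  let q : Spec (CommRingCat.of L) ⟶ U.left :=
    Spec.map (CommRingCat.ofHom (algebraMap (U.left.residueField u) L)) ≫
      U.left.fromSpecResidueField u
  refine ⟨Over.mk (q ≫ U.hom), Over.homMk q rfl, ⟨L, inferInstance, inferInstance, ⟨Iso.refl _⟩⟩,
    fun t => ?_⟩
  change q t = u
  rw [Scheme.Hom.comp_apply]
  exact Scheme.fromSpecResidueField_apply u _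

/-- Maps out of a field point are detected after any nonempty cover. -/
lemma eq_of_comp_eq (hT : IsFinPt T) [IsAffine P.left] (hne : Nonempty U.left) (t : U ⟶ T)
    {r r' : T ⟶ P} (h : t ≫ r = t ≫ r') : r = r' := by
  obtain ⟨⟨L, _, ⟨e⟩⟩, -⟩ := hT
  refine Over.OverMorphism.ext ((cancel_epi e.inv).1 (ext_of_isAffine ?_))
  let w : U.left ⟶ Spec (CommRingCat.of L) := t.left ≫ e.hom
  have hinj : Function.Injective ((Scheme.ΓSpecIso (CommRingCat.of L)).inv ≫ w.appTop) := by
    have : Nontrivial Γ(U.left, ⊤) := by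
      obtain ⟨x⟩ := hne
      exact (U.left.presheaf.germ ⊤ x trivial).hom.domain_nontrivial
    exact RingHom.injective ((Scheme.ΓSpecIso (CommRingCat.of L)).inv ≫ w.appTop).hom
  ext b
  have hw : w ≫ e.inv ≫ r.left = w ≫ e.inv ≫ r'.left := by
    simpa [w] using congrArg CommaMorphism.left h
  have := congrArg (fun f : U.left ⟶ P.left => f.appTop b) hw
  simp only [Scheme.Hom.comp_appTop] at this
  have hbij := (ConcreteCategory.bijective_of_isIso (Scheme.ΓSpecIso (CommRingCat.of L)).hom)
  refine hbij.1 (hinj ?_)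
  simpa using this

section Splits

/-- Ring-theoretic rigidity near a point. -/
lemma exists_near_eq {B L : Type u} [CommRing B] [Algebra k B] [Module.Finite k B] [Field L]
    [Algebra k L] {ι : Type u} [Finite ι] (β : Module.Basis ι k B)
    (hs : ∀ i, ((minpoly k (β i)).map (algebraMap k L)).Splits)
    {X : Scheme.{u}} [IsReduced X] (a : B →+* Γ(X, ⊤)) (t : L →+* Γ(X, ⊤))
    (hat : a.comp (algebraMap k B) = t.comp (algebraMap k L)) (x : X) :
    ∃ (r : B →ₐ[k] L) (W : X.Opens), x ∈ W ∧
      ∀ b, X.presheaf.map (homOfLE (le_top : W ≤ ⊤)).op (a b) =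
        X.presheaf.map (homOfLE (le_top : W ≤ ⊤)).op (t (r b)) := by
  let g : Γ(X, ⊤) →+* X.presheaf.stalk x := (X.presheaf.germ ⊤ x trivial).hom
  let ρ : X.presheaf.stalk x →+* X.residueField x := (X.residue x).hom
  letI : Algebra k (X.residueField x) := ((ρ.comp g).comp (t.comp (algebraMap k L))).toAlgebra
  let a' : B →ₐ[k] X.residueField x :=
    { ((ρ.comp g).comp a) with
      commutes' := fun c => congrArg (ρ.comp g) (RingHom.congr_fun hat c) }
  let t' : L →ₐ[k] X.residueField x :=
    { ((ρ.comp g).comp t) with commutes' := fun c => rfl }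
  have hroots : ∀ i, a' (β i) ∈ t'.range := by
    intro i
    have h0 : aeval (a' (β i)) (minpoly k (β i)) = 0 := by
      rw [aeval_algHom_apply, minpoly.aeval, map_zero]
    have hne : (minpoly k (β i)).map (algebraMap k L) ≠ 0 :=
      Polynomial.map_ne_zero (minpoly.ne_zero (Algebra.IsIntegral.isIntegral _))
    have hm : a' (β i) ∈ (((minpoly k (β i)).map (algebraMap k L)).map t'.toRingHom).roots := by
      rw [Polynomial.mem_roots (Polynomial.map_ne_zero hne), IsRoot.def, Polynomial.eval_map,
        Polynomial.eval₂_map, ← h0]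
      rfl
    rw [(hs i).roots_map] at hm
    obtain ⟨l, -, hl⟩ := Multiset.mem_map.1 hm
    exact ⟨l, hl⟩
  have hall : ∀ b, a' b ∈ t'.range := by
    intro b
    rw [← β.linearCombination_repr b, Finsupp.linearCombination_apply, map_finsuppSum]
    refine Subalgebra.sum_mem _ fun i _ => ?_
    simp only [map_smul]
    exact Subalgebra.smul_mem _ (hroots i) _
  let r : B →ₐ[k] L := (AlgEquiv.ofInjectiveField t').symm.toAlgHom.comp
    (a'.codRestrict t'.range hall)
  have hr : ∀ b, t' (r b) = a' b := fun b =>
    congrArg Subtype.val ((AlgEquiv.ofInjectiveField t').apply_symm_apply ⟨a' b, hall b⟩)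
  have hgerm : ∀ i, g (a (β i)) = g (t (r (β i))) := by
    intro i
    let A := X.presheaf.stalk x
    let m := (minpoly k (β i)).map (algebraMap k L)
    have hmon : m.Monic := (minpoly.monic (Algebra.IsIntegral.isIntegral _)).map _
    have hz : m.eval₂ (g.comp t) (g (a (β i))) = 0 := by
      rw [eval₂_map, RingHom.comp_assoc, ← hat, ← RingHom.comp_assoc]
      have : g (a (β i)) = (g.comp a) (β i) := rfl
      rw [this, ← hom_eval₂, ← Polynomial.aeval_def, minpoly.aeval, map_zero]
    rw [show m = _ from (hs i).eq_prod_roots_of_monic hmon, eval₂_multiset_prod,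
      Multiset.map_map] at hz
    let e := g (a (β i)) - g (t (r (β i)))
    have hunit : ∀ l ∈ m.roots, l ≠ r (β i) → IsUnit (g (a (β i)) - g (t l)) := by
      intro l _ hl
      rw [← IsLocalRing.notMem_maximalIdeal, ← IsLocalRing.residue_eq_zero_iff, map_sub, sub_eq_zero]
      intro h
      exact hl (t'.injective (((hr (β i)).trans h).symm))
    have key : ∀ s : Multiset L, (∀ l ∈ s, l ≠ r (β i) → IsUnit (g (a (β i)) - g (t l))) →
        (s.map fun l => g (a (β i)) - g (t l)).prod = 0 → IsNilpotent e := by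
      intro s
      induction s using Multiset.induction with
      | empty => intro _ h; exact absurd h (by simp)
      | cons l s ih =>
        intro hu h
        rw [Multiset.map_cons, Multiset.prod_cons] at h
        by_cases hl : l = r (β i)
        · subst hl
          by_cases hs' : ∀ l ∈ s, IsUnit (g (a (β i)) - g (t l))
          · have : IsUnit (s.map fun l => g (a (β i)) - g (t l)).prod :=
              Multiset.prod_induction IsUnit _ (fun _ _ => IsUnit.mul) isUnit_one (by
                intro z hz
                obtain ⟨l, hl, rfl⟩ := Multiset.mem_map.1 hz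
                exact hs' l hl)
            exact ⟨1, by rw [pow_one]; exact this.mul_left_eq_zero.1 h⟩
          · push_neg at hs'
            obtain ⟨l', hl', hnu⟩ := hs'
            have hl'' : l' = r (β i) := by
              by_contra hne
              exact hnu (hu l' (Multiset.mem_cons_of_mem hl') hne)
            obtain ⟨n, hn⟩ := ih (fun l hl => hu l (Multiset.mem_cons_of_mem hl)) (by
              have hd : e ∣ (s.map fun l => g (a (β i)) - g (t l)).prod :=
                Multiset.dvd_prod (Multiset.mem_map.2 ⟨l', hl', by rw [hl'']⟩)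
              obtain ⟨c, hc⟩ := hd
              have : IsNilpotent (s.map fun l => g (a (β i)) - g (t l)).prod :=
                ⟨2, by rw [sq]; nth_rw 1 [hc]; rw [mul_right_comm]; change _ * _ = _
                       rw [show e * (s.map fun l => g (a (β i)) - g (t l)).prod = 0 from h, zero_mul]⟩
              exact this.eq_zero)
            exact ⟨n, hn⟩
        · exact ih (fun l hl => hu l (Multiset.mem_cons_of_mem hl))
            ((hu l (Multiset.mem_cons_self _ _) hl).mul_right_eq_zero.1 h)
    have hnil : IsNilpotent e := key m.roots hunit (by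
      rw [← hz]
      refine congrArg Multiset.prod (Multiset.map_congr rfl fun l _ => ?_)
      simp)
    exact sub_eq_zero.1 hnil.eq_zero
  have hW : ∀ i, ∃ W : X.Opens, x ∈ W ∧ X.presheaf.map (homOfLE (le_top : W ≤ ⊤)).op (a (β i)) =
      X.presheaf.map (homOfLE (le_top : W ≤ ⊤)).op (t (r (β i))) := by
    intro i
    obtain ⟨W, hxW, i₁, i₂, h⟩ := TopCat.Presheaf.germ_eq X.presheaf x (U := ⊤) (V := ⊤) trivial trivial _ _ (hgerm i)
    exact ⟨W, hxW, h⟩
  choose W hxW hW using hW
  cases nonempty_fintype ι
  let W₀ : X.Opens := Finset.univ.inf W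
  have hle : ∀ i, W₀ ≤ W i := fun i => Finset.inf_le (Finset.mem_univ i)
  refine ⟨r, W₀, ?_, fun b => ?_⟩
  · change x ∈ ((W₀ : Set X))
    simp [W₀, hxW]
  let res : Γ(X, ⊤) →+* Γ(X, W₀) := (X.presheaf.map (homOfLE (le_top : W₀ ≤ ⊤)).op).hom
  have hres : ∀ i, res (a (β i)) = res (t (r (β i))) := by
    intro i
    have := congrArg (X.presheaf.map (homOfLE (hle i)).op) (hW i)
    simp only [← CommRingCat.comp_apply, ← Functor.map_comp, ← op_comp] at this
    exact this
  change res (a b) = res (t (r b))
  rw [← β.linearCombination_repr b, Finsupp.linearCombination_apply, map_finsuppSum a,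
    map_finsuppSum r, map_finsuppSum t, map_finsuppSum res, map_finsuppSum res]
  refine Finsupp.sum_congr fun i _ => ?_
  rw [Algebra.smul_def, map_mul, map_mul, map_mul, map_mul, map_mul, hres,
    r.commutes]
  rw [show a (algebraMap k B _) = t (algebraMap k L _) from RingHom.congr_fun hat _]

/-- `T` splits `P` : maps from reduced schemes to `P` are near each point pulled back from `T`. -/
def Splits (T P : Over (Spec (CommRingCat.of k))) : Prop :=
  ∀ (U : Over (Spec (CommRingCat.of k))) [IsReduced U.left] (a : U ⟶ P) (t : U ⟶ T) (x : U.left),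
    ∃ (W : U.left.Opens) (r : T ⟶ P), x ∈ W ∧ W.ι ≫ a.left = W.ι ≫ t.left ≫ r.left

lemma Splits.of_hom {T' : Over (Spec (CommRingCat.of k))} (h : Splits T P) (f : T' ⟶ T) :
    Splits T' P := by
  intro U _ a t x
  obtain ⟨W, r, hx, hW⟩ := h U a (t ≫ f) x
  exact ⟨W, f ≫ r, hx, by simpa using hW⟩

/-- A finite extension splitting a finite scheme. -/
lemma exists_splits (hT : IsFinPt T) (P : Over (Spec (CommRingCat.of k))) [IsFinite P.hom] :
    ∃ (T' : Over (Spec (CommRingCat.of k))) (_ : T' ⟶ T), IsFinPt T' ∧ Splits T' P := by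
  obtain ⟨⟨L, _, ⟨e⟩⟩, hTf⟩ := hT
  have : IsAffine P.left := isAffine_of_isAffineHom P.hom
  let toB : k →+* Γ(P.left, ⊤) :=
    ((Scheme.ΓSpecIso (CommRingCat.of k)).inv ≫ P.hom.appTop).hom
  have hfinB : toB.Finite := by
    have h : IsAffine P.left ∧ RingHom.Finite P.hom.appTop.hom :=
      (HasAffineProperty.iff_of_isAffine (P := @IsFinite)).1 inferInstance
    exact RingHom.Finite.comp h.2
      (RingHom.Finite.of_surjective _
        (ConcreteCategory.bijective_of_isIso (Scheme.ΓSpecIso (CommRingCat.of k)).inv).2)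
  letI : Algebra k Γ(P.left, ⊤) := toB.toAlgebra
  have : Module.Finite k Γ(P.left, ⊤) := hfinB
  let f : CommRingCat.of k ⟶ CommRingCat.of L := Spec.preimage (e.inv ≫ T.hom)
  have hf : Spec.map f = e.inv ≫ T.hom := Spec.map_preimage _
  letI : Algebra k L := f.hom.toAlgebra
  have : Module.Finite k L := by
    have : IsFinite (e.inv ≫ T.hom) := inferInstance
    rw [← hf, IsFinite.SpecMap_iff] at this
    exact this
  let β := Module.Free.chooseBasis k Γ(P.left, ⊤)
  let m : L[X] := ∏ i, (minpoly k (β i)).map (algebraMap k L)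
  let L' := m.SplittingField
  have : IsScalarTower k L L' := inferInstance
  have : Module.Finite k L' := Module.Finite.trans L L'
  let c : Spec (CommRingCat.of L') ⟶ T.left :=
    Spec.map (CommRingCat.ofHom (algebraMap L L')) ≫ e.inv
  have hc : c ≫ T.hom = Spec.map (CommRingCat.ofHom (algebraMap k L')) := by
    rw [Category.assoc, ← hf, ← Spec.map_comp, IsScalarTower.algebraMap_eq k L L']; rfl
  refine ⟨Over.mk (c ≫ T.hom), Over.homMk c rfl, ⟨⟨L', inferInstance, ⟨Iso.refl _⟩⟩, ?_⟩, ?_⟩
  · change IsFinite (c ≫ T.hom)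
    rw [hc, IsFinite.SpecMap_iff]
    exact RingHom.finite_algebraMap.2 inferInstance
  intro U _ a t x
  have hs : ∀ i, ((minpoly k (β i)).map (algebraMap k L')).Splits := by
    intro i
    have h1 : (m.map (algebraMap L L')).Splits := SplittingField.splits m
    rw [Polynomial.map_prod] at h1
    have hne : (∏ i, ((minpoly k (β i)).map (algebraMap k L)).map (algebraMap L L')) ≠ 0 :=
      Finset.prod_ne_zero_iff.2 fun i _ => Polynomial.map_ne_zero (Polynomial.map_ne_zero
        (minpoly.ne_zero (Algebra.IsIntegral.isIntegral _)))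
    have := h1.of_dvd hne (Finset.dvd_prod_of_mem _ (Finset.mem_univ i))
    rwa [Polynomial.map_map] at this
  let σ := Scheme.ΓSpecIso (CommRingCat.of L')
  have htw : t.left ≫ Spec.map (CommRingCat.ofHom (algebraMap k L')) = U.hom := by
    rw [← hc]; exact Over.w t
  have hat : a.left.appTop.hom.comp (algebraMap k Γ(P.left, ⊤)) =
      (σ.inv ≫ t.left.appTop).hom.comp (algebraMap k L') := by
    have h1 : (Scheme.ΓSpecIso (CommRingCat.of k)).inv ≫ (a.left ≫ P.hom).appTop =
        (Scheme.ΓSpecIso (CommRingCat.of k)).inv ≫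
          (t.left ≫ Spec.map (CommRingCat.ofHom (algebraMap k L'))).appTop := by
      rw [htw, Over.w a]
    rw [Scheme.Hom.comp_appTop, Scheme.Hom.comp_appTop, ← Category.assoc, ← Category.assoc,
      ← Scheme.ΓSpecIso_inv_naturality, Category.assoc] at h1
    exact congrArg CommRingCat.Hom.hom h1
  obtain ⟨r, W, hxW, hr⟩ := exists_near_eq β hs a.left.appTop.hom (σ.inv ≫ t.left.appTop).hom hat x
  let r' : Spec (CommRingCat.of L') ⟶ P.left :=
    Spec.map (CommRingCat.ofHom r.toRingHom) ≫ P.left.isoSpec.inv
  have hr' : r'.appTop = CommRingCat.ofHom r.toRingHom ≫ σ.inv := by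
    have h0 : P.left.isoSpec.inv.appTop = (Scheme.ΓSpecIso Γ(P.left, ⊤)).inv := by
      have h := congrArg Scheme.Hom.appTop (Scheme.isoSpec_inv_toSpecΓ P.left)
      simp only [Scheme.Hom.comp_appTop, Scheme.toSpecΓ_appTop, Scheme.Hom.id_appTop] at h
      exact (Iso.hom_comp_eq_id _).1 h
    rw [Scheme.Hom.comp_appTop, h0]
    exact (Scheme.ΓSpecIso_inv_naturality _).symm
  have hrk : r' ≫ P.hom = c ≫ T.hom := by
    rw [hc]
    refine ext_of_isAffine ?_
    rw [Scheme.Hom.comp_appTop, hr', ← cancel_epi (Scheme.ΓSpecIso (CommRingCat.of k)).inv,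
      ← Scheme.ΓSpecIso_inv_naturality]
    ext z
    exact congrArg σ.inv (r.commutes z)
  refine ⟨W, Over.homMk r' hrk, hxW, ext_of_isAffine ?_⟩
  change (W.ι ≫ a.left).appTop = (W.ι ≫ t.left ≫ r').appTop
  have hι : U.left.presheaf.map (homOfLE (le_top : W ≤ ⊤)).op ≫
      U.left.presheaf.map (homOfLE W.ι_image_top.le).op = W.ι.appTop := by
    rw [← Functor.map_comp, Scheme.Opens.ι_appTop]; rfl
  simp only [Scheme.Hom.comp_appTop, hr', Category.assoc, ← hι]
  ext z
  exact congrArg (U.left.presheaf.map (homOfLE W.ι_image_top.le).op) (hr z)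

end Splits

end Groth.Agent.H14GerbeCoh
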