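import Groth.Agent.H14GerbeCoh.Obj
import Mathlib.CategoryTheory.Sites.EpiMono
import Mathlib.CategoryTheory.Sites.LocallyBijective
import Mathlib.Algebra.Category.Grp.Adjunctions
import Mathlib.Algebra.Homology.DerivedCategory.Ext.EnoughInjectives

/-!
# Sections, gluing and low degree cohomology of abelian sheaves on a category over schemes
-/

set_option autoImplicit false
set_option backward.isDefEq.respectTransparency false
set_option backward.isDefEq.respectTransparency.types false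

universe u

open CategoryTheory CategoryTheory.Limits CategoryTheory.Abelian AlgebraicGeometry Opposite

noncomputable section

namespace Groth.Agent.H14GerbeCoh

variable {S₀ : Scheme.{u}} {𝒢 : AlgSt.Cat S₀} {K : Precoverage Scheme.{u}}

/-- Sections. -/
abbrev sec (F : StCoh.Ab K 𝒢) (x : 𝒢.obj) : Type (u + 1) := F.obj.obj (op x)

/-- Restriction of sections. -/
abbrev res (F : StCoh.Ab K 𝒢) {x y : 𝒢.obj} (f : y ⟶ x) : sec F x →+ sec F y :=
  (F.obj.map f.op).hom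

lemma res_comp (F : StCoh.Ab K 𝒢) {x y z : 𝒢.obj} (f : y ⟶ x) (g : z ⟶ y) (s : sec F x) :
    res F (g ≫ f) s = res F g (res F f s) := by
  simp only [res, op_comp, Functor.map_comp]
  rfl

lemma res_id (F : StCoh.Ab K 𝒢) {x : 𝒢.obj} (s : sec F x) : res F (𝟙 x) s = s := by
  simp only [res, op_id, CategoryTheory.Functor.map_id]
  rfl

/-- The action of a morphism of sheaves on sections. -/
abbrev app {F G : StCoh.Ab K 𝒢} (f : F ⟶ G) (x : 𝒢.obj) : sec F x →+ sec G x :=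
  (f.hom.app (op x)).hom

lemma app_res {F G : StCoh.Ab K 𝒢} (f : F ⟶ G) {x y : 𝒢.obj} (φ : y ⟶ x) (s : sec F x) :
    app f y (res F φ s) = res G φ (app f x s) :=
  ConcreteCategory.congr_hom (f.hom.naturality φ.op) s

lemma isSheaf_sec (F : StCoh.Ab K 𝒢) :
    Presieve.IsSheaf (StCoh.J K 𝒢) (F.obj ⋙ CategoryTheory.forget AddCommGrpCat.{u + 1}) :=
  (isSheaf_iff_isSheaf_of_type _ _).1
    ((Presheaf.isSheaf_iff_isSheaf_forget (StCoh.J K 𝒢) F.obj
      (CategoryTheory.forget AddCommGrpCat.{u + 1})).1 F.property)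

lemma sec_ext (F : StCoh.Ab K 𝒢) {x : 𝒢.obj} {R : Sieve x} (hR : R ∈ StCoh.J K 𝒢 x)
    {s t : sec F x} (h : ∀ ⦃η : 𝒢.obj⦄ (φ : η ⟶ x), R φ → res F φ s = res F φ t) : s = t :=
  ((isSheaf_sec F).isSeparated R hR).ext fun _ φ hφ => h φ hφ

lemma sec_glue (F : StCoh.Ab K 𝒢) {x : 𝒢.obj} {R : Sieve x} (hR : R ∈ StCoh.J K 𝒢 x)
    (s : ∀ ⦃η : 𝒢.obj⦄ (φ : η ⟶ x), R φ → sec F η)
    (h : ∀ ⦃η ζ : 𝒢.obj⦄ (φ : η ⟶ x) (g : ζ ⟶ η) (hφ : R φ) (hg : R (g ≫ φ)),
      res F g (s φ hφ) = s (g ≫ φ) hg) :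
    ∃ t : sec F x, ∀ ⦃η : 𝒢.obj⦄ (φ : η ⟶ x) (hφ : R φ), res F φ t = s φ hφ := by
  let fam : Presieve.FamilyOfElements (F.obj ⋙ CategoryTheory.forget AddCommGrpCat.{u + 1}) R :=
    fun η φ hφ => s φ hφ
  have hc : fam.Compatible := by
    rw [Presieve.compatible_iff_sieveCompatible]
    intro η ζ φ g hφ
    exact (h φ g hφ (R.downward_closed hφ g)).symm
  exact ⟨((isSheaf_sec F) R hR).amalgamate fam hc,
    fun η φ hφ => ((isSheaf_sec F) R hR).valid_glue hc φ hφ⟩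

/-- Global families of sections. -/
def Glob (F : StCoh.Ab K 𝒢) : Type (u + 1) :=
  {s : ∀ x, sec F x // ∀ ⦃x y : 𝒢.obj⦄ (f : y ⟶ x), res F f (s x) = s y}

/-- Descent from one object through which all objects locally factor. -/
lemma exists_glob_of_eq (F : StCoh.Ab K 𝒢) {x : 𝒢.obj}
    (hx : ∀ ξ : 𝒢.obj, ∃ R ∈ StCoh.J K 𝒢 ξ, ∀ ⦃η : 𝒢.obj⦄ (φ : η ⟶ ξ), R φ → Nonempty (η ⟶ x))
    (s : sec F x) (h : ∀ (ξ : 𝒢.obj) (a b : ξ ⟶ x), res F a s = res F b s) :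
    ∃ g : Glob F, g.1 x = s := by
  choose R hR hne using hx
  have hg := fun ξ => sec_glue F (hR ξ) (fun η φ hφ => res F (hne ξ φ hφ).some s)
    (fun η ζ φ g hφ hg => by rw [← res_comp]; exact h _ _ _)
  choose t ht using hg
  have hkey : ∀ ⦃η ξ : 𝒢.obj⦄ (g : η ⟶ ξ) (a : η ⟶ x), res F g (t ξ) = res F a s := by
    intro η ξ g a
    refine sec_ext F ((StCoh.J K 𝒢).pullback_stable g (hR ξ)) fun θ ψ hψ => ?_
    rw [← res_comp, ← res_comp, ht ξ (ψ ≫ g) hψ]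
    exact h _ _ _
  refine ⟨⟨t, fun ξ ζ f => sec_ext F (hR ζ) fun η φ hφ => ?_⟩, ?_⟩
  · obtain ⟨a⟩ := hne ζ φ hφ
    rw [← res_comp, hkey _ a, hkey _ a]
  · refine (res_id F (t x)).symm.trans ((hkey (𝟙 x) (𝟙 x)).trans (res_id F s))

lemma glob_ext (F : StCoh.Ab K 𝒢) {g g' : Glob F} {x : 𝒢.obj}
    (hx : ∀ ξ : 𝒢.obj, ∃ R ∈ StCoh.J K 𝒢 ξ, ∀ ⦃η : 𝒢.obj⦄ (φ : η ⟶ ξ), R φ → Nonempty (η ⟶ x))
    (h : g.1 x = g'.1 x) : g = g' := by
  refine Subtype.ext (funext fun ξ => ?_)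
  obtain ⟨R, hR, hne⟩ := hx ξ
  refine sec_ext F hR fun η φ hφ => ?_
  obtain ⟨a⟩ := hne φ hφ
  rw [g.2, g'.2, ← g.2 a, ← g'.2 a, h]

section Exact

variable {F I Q : StCoh.Ab K 𝒢} {i : F ⟶ I} {π : I ⟶ Q} (w : i ≫ π = 0)

lemma app_comp_eq_zero (w : i ≫ π = 0) (x : 𝒢.obj) (s : sec F x) : app π x (app i x s) = 0 :=
  ConcreteCategory.congr_hom (congrArg (fun m : F ⟶ Q => m.hom.app (op x)) w) s

lemma app_injective (hS : (ShortComplex.mk i π w).ShortExact) (x : 𝒢.obj) :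
    Function.Injective (app i x) := by
  have : Mono i := hS.mono_f
  let G := sheafToPresheaf (StCoh.J K 𝒢) AddCommGrpCat.{u + 1} ⋙
    (evaluation _ AddCommGrpCat.{u + 1}).obj (op x)
  exact (AddCommGrpCat.mono_iff_injective (G.map i)).1 inferInstance

lemma exists_of_app_eq_zero (hS : (ShortComplex.mk i π w).ShortExact) {x : 𝒢.obj} {s : sec I x}
    (h : app π x s = 0) : ∃ t : sec F x, app i x t = s := by
  have : Mono i := hS.mono_f
  let G := sheafToPresheaf (StCoh.J K 𝒢) AddCommGrpCat.{u + 1} ⋙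
    (evaluation _ AddCommGrpCat.{u + 1}).obj (op x)
  have := (hS.exact.map_of_mono_of_preservesKernel G hS.mono_f inferInstance)
  rw [ShortComplex.ab_exact_iff] at this
  exact this s h

lemma exists_local_lift (hS : (ShortComplex.mk i π w).ShortExact) {x : 𝒢.obj} (q : sec Q x) :
    ∃ R ∈ StCoh.J K 𝒢 x, ∀ ⦃η : 𝒢.obj⦄ (φ : η ⟶ x), R φ → ∃ l : sec I η, app π η l = res Q φ q := by
  have : Epi π := hS.epi_g
  have hls : Sheaf.IsLocallySurjective π := (Sheaf.isLocallySurjective_iff_epi' _ π).2 this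
  exact ⟨_, Presheaf.imageSieve_mem (StCoh.J K 𝒢) π.hom q, fun η φ hφ => hφ⟩

end Exact

/-- The constant sheaf `ℤ`. -/
abbrev constZ : StCoh.Ab K 𝒢 :=
  (constantSheaf (StCoh.J K 𝒢) AddCommGrpCat.{u + 1}).obj (AddCommGrpCat.of (ULift.{u + 1} ℤ))

lemma exists_hom_of_glob (F : StCoh.Ab K 𝒢) (g : Glob F) :
    ∃ b : constZ (K := K) (𝒢 := 𝒢) ⟶ F, ∀ x : 𝒢.obj,
      app b x (((toSheafify (StCoh.J K 𝒢) ((Functor.const _).obj
        (AddCommGrpCat.of (ULift.{u + 1} ℤ)))).app (op x)).hom ⟨1⟩) = g.1 x := by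
  let Z : 𝒢.objᵒᵖ ⥤ AddCommGrpCat.{u + 1} :=
    (Functor.const _).obj (AddCommGrpCat.of (ULift.{u + 1} ℤ))
  let b₀ : Z ⟶ F.obj :=
    { app := fun U => AddCommGrpCat.ofHom
        ((zmultiplesHom _ (g.1 U.unop)).comp AddEquiv.ulift.toAddMonoidHom)
      naturality := fun U V f => by
        ext n
        change n.down • g.1 V.unop = (F.obj.map f).hom (n.down • g.1 U.unop)
        rw [map_zsmul]
        exact congrArg _ (g.2 f.unop).symm }
  refine ⟨⟨sheafifyLift (StCoh.J K 𝒢) b₀ F.property⟩, fun x => ?_⟩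
  refine (ConcreteCategory.congr_hom (congrArg (fun m => NatTrans.app m (op x))
    (toSheafify_sheafifyLift (StCoh.J K 𝒢) b₀ F.property)) (⟨1⟩ : ULift.{u + 1} ℤ)).trans ?_
  change (1 : ℤ) • g.1 x = g.1 x
  rw [one_zsmul]

lemma exists_lift_hom {I Q : StCoh.Ab K 𝒢} (π : I ⟶ Q)
    (hlift : ∀ q : Glob Q, ∃ s : Glob I, ∀ x, app π x (s.1 x) = q.1 x)
    (c : constZ (K := K) (𝒢 := 𝒢) ⟶ Q) : ∃ b, b ≫ π = c := by
  let Z : 𝒢.objᵒᵖ ⥤ AddCommGrpCat.{u + 1} :=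
    (Functor.const _).obj (AddCommGrpCat.of (ULift.{u + 1} ℤ))
  let one : ∀ x : 𝒢.obj, sec (constZ (K := K) (𝒢 := 𝒢)) x := fun x =>
    ((toSheafify (StCoh.J K 𝒢) Z).app (op x)).hom ⟨1⟩
  obtain ⟨s, hs⟩ := hlift ⟨fun x => app c x (one x), fun x y f => by
    rw [← app_res]
    exact congrArg (app c y) (ConcreteCategory.congr_hom ((toSheafify (StCoh.J K 𝒢) Z).naturality f.op)
      (⟨1⟩ : ULift.{u + 1} ℤ)).symm⟩
  obtain ⟨b, hb⟩ := exists_hom_of_glob I s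
  refine ⟨b, Sheaf.hom_ext (sheafify_hom_ext (StCoh.J K 𝒢) _ _ Q.property ?_)⟩
  ext U n
  change app (b ≫ π) U.unop (((toSheafify (StCoh.J K 𝒢) Z).app U).hom n) =
    app c U.unop (((toSheafify (StCoh.J K 𝒢) Z).app U).hom n)
  have e : n = n.down • (⟨1⟩ : ULift.{u + 1} ℤ) := ULift.ext _ _ (by simp)
  rw [e, map_zsmul, map_zsmul, map_zsmul]
  refine congrArg (_ • ·) ?_
  exact (congrArg (app π U.unop) (hb U.unop)).trans (hs U.unop)

/-- Vanishing of `H¹` from lifting global sections. -/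
lemma subsingleton_H1 {F I Q : StCoh.Ab K 𝒢} {i : F ⟶ I} {π : I ⟶ Q} (w : i ≫ π = 0)
    (hS : (ShortComplex.mk i π w).ShortExact) [Injective I]
    (hlift : ∀ q : Glob Q, ∃ s : Glob I, ∀ x, app π x (s.1 x) = q.1 x) :
    Subsingleton (StCoh.H K F 1) := by
  refine subsingleton_of_forall_eq 0 fun (x : Ext _ F 1) => ?_
  obtain ⟨y, rfl⟩ := Ext.covariant_sequence_exact₁ _ hS x (Ext.eq_zero_of_injective _) (zero_add 1)
  obtain ⟨c, rfl⟩ := (Ext.mk₀_bijective _ _).2 y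
  obtain ⟨b, rfl⟩ := exists_lift_hom π hlift c
  refine (congrArg (fun e : Ext _ _ 0 => e.comp hS.extClass (zero_add 1))
    (Ext.mk₀_comp_mk₀ b π).symm).trans ?_
  refine (Ext.comp_assoc (a₁₂ := 0) (a₂₃ := 1) _ _ hS.extClass (zero_add 0)
    (zero_add 1) (by omega)).trans ?_
  exact (congrArg (fun e => (Ext.mk₀ b).comp e (zero_add 1)) hS.comp_extClass).trans
    (Ext.comp_zero _ _ _ _ _)

/-- Dimension shift. -/
lemma subsingleton_H2 {F I Q : StCoh.Ab K 𝒢} {i : F ⟶ I} {π : I ⟶ Q} (w : i ≫ π = 0)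
    (hS : (ShortComplex.mk i π w).ShortExact) [Injective I]
    (h : Subsingleton (StCoh.H K Q 1)) : Subsingleton (StCoh.H K F 2) := by
  refine subsingleton_of_forall_eq 0 fun (x : Ext _ F 2) => ?_
  obtain ⟨y, rfl⟩ := Ext.covariant_sequence_exact₁ _ hS x (Ext.eq_zero_of_injective _)
    (by omega : 1 + 1 = 2)
  rw [show y = 0 from @Subsingleton.elim _ h _ _, Ext.zero_comp]

/-- An embedding into an injective sheaf. -/
lemma exists_injective_seq (F : StCoh.Ab K 𝒢) :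
    ∃ (I Q : StCoh.Ab K 𝒢) (i : F ⟶ I) (π : I ⟶ Q) (w : i ≫ π = 0),
      Injective I ∧ (ShortComplex.mk i π w).ShortExact :=
  ⟨Injective.under F, cokernel (Injective.ι F), Injective.ι F, cokernel.π _, cokernel.condition _,
    inferInstance,
    { exact := ShortComplex.exact_cokernel _
      mono_f := inferInstanceAs (Mono (Injective.ι F))
      epi_g := inferInstanceAs (Epi (cokernel.π (Injective.ι F))) }⟩

/-- An injective sheaf is injective as a presheaf. -/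
lemma injective_obj (I : StCoh.Ab K 𝒢) [Injective I] : Injective I.obj :=
  Injective.injective_of_adjoint (sheafificationAdjunction (StCoh.J K 𝒢) AddCommGrpCat.{u + 1}) I

end Groth.Agent.H14GerbeCoh
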