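import Groth.Agent.H14GerbeCoh.Hom
import Groth.Agent.H18Et.RootCover
import Groth.Prelude.Def_GmPts
import Groth.Prelude.Def_StCoh

/-!
# The Kummer sequence on the fppf site of a category fibred in groupoids over a field
-/

set_option autoImplicit false
set_option backward.isDefEq.respectTransparency false
set_option backward.isDefEq.respectTransparency.types false

universe u

open CategoryTheory CategoryTheory.Limits CategoryTheory.Abelian AlgebraicGeometry Opposite Polynomial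
open MonoidalCategory CartesianMonoidalCategory MonObj

noncomputable section

namespace Groth.Agent.H14GerbeCoh

variable {k : Type u} [Field k]

local notation "K₀" => Scheme.fppfPrecoverage

/-- `n`-th roots of units exist after an fppf covering. -/
lemma exists_root_member {S : Scheme.{u}} {T : Over S} (v : (Γ(T.left, ⊤))ˣ) {n : ℕ}
    (hn : 0 < n) (z : T.left) :
    ∃ (V : Over S) (c : V ⟶ T) (r : (Γ(V.left, ⊤))ˣ),
      Flat c.left ∧ LocallyOfFinitePresentation c.left ∧ z ∈ Set.range c.left ∧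
      r ^ n = Units.map (c.left.appTop.hom : Γ(T.left, ⊤) →* Γ(V.left, ⊤)) v := by
  obtain ⟨_, ⟨(O : T.left.Opens), hO, rfl⟩, hz, -⟩ :=
    T.left.isBasis_affineOpens.exists_subset_of_mem_open (Set.mem_univ z) isOpen_univ
  replace hO : IsAffineOpen O := hO
  let res : Γ(T.left, ⊤) →+* Γ(T.left, O) := (T.left.presheaf.map (homOfLE le_top).op).hom
  haveI : Nontrivial Γ(T.left, O) :=
    haveI : Nonempty O := ⟨⟨z, hz⟩⟩
    inferInstance
  let f : Polynomial Γ(T.left, O) := X ^ n - C (res v)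
  have hf : f.Monic := monic_X_pow_sub_C _ hn.ne'
  have hd : 0 < f.natDegree := by rw [natDegree_X_pow_sub_C]; exact hn
  haveI : Module.Free Γ(T.left, O) (AdjoinRoot f) := hf.free_adjoinRoot
  haveI : Module.Finite Γ(T.left, O) (AdjoinRoot f) := hf.finite_adjoinRoot
  let alg := CommRingCat.ofHom (algebraMap Γ(T.left, O) (AdjoinRoot f))
  haveI : IsOpenImmersion hO.fromSpec := hO.isOpenImmersion_fromSpec
  haveI : Flat (Spec.map alg) := (HasRingHomProperty.Spec_iff (P := @Flat)).mpr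
    (RingHom.flat_algebraMap_iff.2 inferInstance)
  haveI : LocallyOfFinitePresentation (Spec.map alg) :=
    (HasRingHomProperty.Spec_iff (P := @LocallyOfFinitePresentation)).mpr
      (RingHom.finitePresentation_algebraMap.2 inferInstance)
  let π : Spec (CommRingCat.of (AdjoinRoot f)) ⟶ T.left := Spec.map alg ≫ hO.fromSpec
  let ψ : AdjoinRoot f →+* Γ(Spec (CommRingCat.of (AdjoinRoot f)), ⊤) :=
    (Scheme.ΓSpecIso (CommRingCat.of (AdjoinRoot f))).inv.hom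
  have hπ : π.appTop.hom v.1 = ψ (AdjoinRoot.root f ^ n) := by
    rw [show π.appTop = _ from H18Et.RootCover.appTop_spec_fromSpec hO alg]
    have h0 : AdjoinRoot.mk f f = 0 := AdjoinRoot.mk_self
    simp only [f, map_sub, map_pow, AdjoinRoot.mk_X, AdjoinRoot.mk_C, sub_eq_zero] at h0
    rw [h0]
    rfl
  have hu : IsUnit (ψ (AdjoinRoot.root f)) := by
    refine (isUnit_pow_iff hn.ne').1 ?_
    rw [← map_pow, ← hπ]
    exact v.isUnit.map _
  refine ⟨Over.mk (π ≫ T.hom), Over.homMk π rfl, hu.unit, inferInstanceAs (Flat π),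
    inferInstanceAs (LocallyOfFinitePresentation π), ?_, ?_⟩
  · obtain ⟨q, hq⟩ : z ∈ Set.range hO.fromSpec := hO.range_fromSpec.ge hz
    obtain ⟨w, rfl⟩ := H18Et.RootCover.spec_map_surjective hf hd q
    exact ⟨w, (Scheme.Hom.comp_apply _ _ _).trans hq⟩
  · ext
    change (ψ (AdjoinRoot.root f)) ^ n = π.appTop.hom v.1
    rw [← map_pow, hπ]

variable {𝒢 : AlgSt.Cat (Spec (CommRingCat.of k))} [StCoh.BaseCont K₀ 𝒢]

lemma epi_powMap (hp : FibCat.IsFibGrpd 𝒢.p) {n : ℕ} (hn : 0 < n) :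
    Epi (StCoh.powMap K₀ 𝒢 n) := by
  refine (Sheaf.isLocallySurjective_iff_epi' _ _).1 ⟨fun {ξ} (s : sec (StCoh.Gm K₀ 𝒢) ξ) => ?_⟩
  let t : 𝒢.p.obj ξ ⟶ Red.Gm (Spec (CommRingCat.of k)) := s.down.toMul
  refine mem_of_members hp fun z => ?_
  obtain ⟨V, c, r, h1, h2, h3, h4⟩ := exists_root_member (GmPts.unitOfPt t) hn z
  obtain ⟨ζ, φ, hφ⟩ := exists_pullObj' hp ξ c
  obtain ⟨hh1, hh2, hh3, r', hr'⟩ := hφ (fun W q => Flat q.left ∧
    LocallyOfFinitePresentation q.left ∧ z ∈ Set.range q.left ∧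
    ∃ r' : (Γ(W.left, ⊤))ˣ, r' ^ n = Units.map (q.left.appTop.hom : _ →* _) (GmPts.unitOfPt t))
    ⟨h1, h2, h3, r, h4⟩
  refine ⟨ζ, φ, ⟨ULift.up (Additive.ofMul (GmPts.ptOfUnit r')), ?_⟩, hh1, hh2, hh3⟩
  let xr : sec (StCoh.Gm K₀ 𝒢) ζ := ULift.up (Additive.ofMul (GmPts.ptOfUnit r'))
  have h0 : app (StCoh.powMap K₀ 𝒢 n) ζ xr = n • xr := by
    change (AddMonoidHom.mk' (fun g : StCoh.Gm K₀ 𝒢 ⟶ StCoh.Gm K₀ 𝒢 => app g ζ xr)
      (fun a b => rfl)) (n • 𝟙 _) = _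
    rw [map_nsmul]
    rfl
  refine h0.trans (ULift.ext _ _ ?_)
  change n • Additive.ofMul (GmPts.ptOfUnit r') = Additive.ofMul (𝒢.p.map φ ≫ t)
  rw [← ofMul_pow]
  refine congrArg _ ?_
  refine (GmPts.ptOfUnit_unitOfPt _).symm.trans ((congrArg _ ?_).trans (GmPts.ptOfUnit_unitOfPt _))
  rw [GmPts.unitOfPt_comp]
  refine Eq.trans ?_ hr'
  exact (map_pow (GmPts.equiv (S := Spec (CommRingCat.of k)) (𝒢.p.obj ζ)) _ n).trans
    (congrArg (· ^ n) (GmPts.unitOfPt_ptOfUnit r'))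

theorem kummer_H2 (hp : FibCat.IsFibGrpd 𝒢.p) {n : ℕ} (hn : 0 < n) :
    (Sheaf.H.map (StCoh.muι K₀ 𝒢 n) 2).range =
        (DistribSMul.toAddMonoidHom (StCoh.BrCoh K₀ 𝒢) n).ker ∧
      Nonempty ((Sheaf.H.map (StCoh.muι K₀ 𝒢 n) 2).ker ≃+
        StCoh.H K₀ (StCoh.Gm K₀ 𝒢) 1 ⧸
          (DistribSMul.toAddMonoidHom (StCoh.H K₀ (StCoh.Gm K₀ 𝒢) 1) n).range) := by
  have := epi_powMap hp hn
  let S : ShortComplex (StCoh.Ab K₀ 𝒢) :=
    ShortComplex.mk (StCoh.muι K₀ 𝒢 n) (StCoh.powMap K₀ 𝒢 n) (kernel.condition _)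
  have hS : S.ShortExact :=
    { exact := ShortComplex.exact_kernel (StCoh.powMap K₀ 𝒢 n)
      mono_f := inferInstanceAs (Mono (kernel.ι _))
      epi_g := inferInstanceAs (Epi (StCoh.powMap K₀ 𝒢 n)) }
  have hsm : ∀ (m : ℕ) (x : StCoh.H K₀ (StCoh.Gm K₀ 𝒢) m),
      x.comp (Ext.mk₀ S.g) (add_zero m) = n • x := by
    intro m x
    change x.comp (Ext.mk₀ (n • 𝟙 (StCoh.Gm K₀ 𝒢))) (add_zero m) = n • x
    change (AddMonoidHom.mk' (fun g : StCoh.Gm K₀ 𝒢 ⟶ StCoh.Gm K₀ 𝒢 =>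
      x.comp (Ext.mk₀ g) (add_zero m)) (fun a b => by simp [Ext.mk₀_add])) (n • 𝟙 _) = n • x
    rw [map_nsmul]
    exact congrArg _ (Ext.comp_mk₀_id x)
  refine ⟨?_, ?_⟩
  · ext x
    rw [AddMonoidHom.mem_range, AddMonoidHom.mem_ker]
    change (∃ y : StCoh.H K₀ (StCoh.mu K₀ 𝒢 n) 2, y.comp (Ext.mk₀ S.f) (add_zero 2) = x) ↔ n • x = 0
    rw [← hsm]
    refine ⟨?_, fun h => Ext.covariant_sequence_exact₂ _ hS x h⟩
    rintro ⟨y, rfl⟩
    rw [Ext.comp_assoc_of_second_deg_zero, Ext.mk₀_comp_mk₀, S.zero, Ext.mk₀_zero, Ext.comp_zero]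
  · let δ : StCoh.H K₀ (StCoh.Gm K₀ 𝒢) 1 →+ StCoh.H K₀ (StCoh.mu K₀ 𝒢 n) 2 :=
      hS.extClass.postcomp _ (by omega : 1 + 1 = 2)
    have hker : δ.ker = (DistribSMul.toAddMonoidHom (StCoh.H K₀ (StCoh.Gm K₀ 𝒢) 1) n).range := by
      ext x
      rw [AddMonoidHom.mem_range, AddMonoidHom.mem_ker]
      change x.comp hS.extClass (by omega : 1 + 1 = 2) = 0 ↔ ∃ y : StCoh.H K₀ (StCoh.Gm K₀ 𝒢) 1, n • y = x
      constructor
      · intro h
        obtain ⟨y, hy⟩ := Ext.covariant_sequence_exact₃ _ hS x (by omega : 1 + 1 = 2) h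
        exact ⟨y, (hsm 1 y).symm.trans hy⟩
      · rintro ⟨y, rfl⟩
        rw [← hsm, Ext.comp_assoc_of_second_deg_zero, hS.comp_extClass, Ext.comp_zero]
    have hrange : δ.range = (Sheaf.H.map (StCoh.muι K₀ 𝒢 n) 2).ker := by
      ext x
      rw [AddMonoidHom.mem_range, AddMonoidHom.mem_ker]
      change (∃ y : StCoh.H K₀ (StCoh.Gm K₀ 𝒢) 1, y.comp hS.extClass (by omega : 1 + 1 = 2) = x) ↔
        x.comp (Ext.mk₀ S.f) (add_zero 2) = 0
      constructor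
      · rintro ⟨y, rfl⟩
        rw [Ext.comp_assoc_of_third_deg_zero, hS.extClass_comp, Ext.comp_zero]
      · exact fun h => Ext.covariant_sequence_exact₁ _ hS x h (by omega)
    haveI : δ.ker.Normal := ⟨fun a ha g => by simpa using ha⟩
    haveI : (DistribSMul.toAddMonoidHom (StCoh.H K₀ (StCoh.Gm K₀ 𝒢) 1) n).range.Normal :=
      ⟨fun a ha g => by simpa using ha⟩
    exact ⟨((QuotientAddGroup.quotientAddEquivOfEq hker).symm.trans
      ((QuotientAddGroup.quotientKerEquivRange δ).trans (AddEquiv.addSubgroupCongr hrange))).symm⟩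

end Groth.Agent.H14GerbeCoh
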