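import Groth.Agent.H14GerbeCoh.AutPts
import Groth.Agent.H14Stk.Site
import Groth.Agent.H14Stk.Gerbe2
import Groth.Prelude.Def_StCoh

/-!
# Finite and geometric objects of a gerbe over a field
-/

set_option autoImplicit false
set_option backward.isDefEq.respectTransparency false
set_option backward.isDefEq.respectTransparency.types false

universe u

open CategoryTheory CategoryTheory.Functor CategoryTheory.Limits AlgebraicGeometry Opposite

noncomputable section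

namespace Groth.Agent.H14GerbeCoh

open H14Fib H14Stk

variable {k : Type u} [Field k] {𝒢 : AlgSt.Cat (Spec (CommRingCat.of k))}

local notation "K₀" => Scheme.fppfPrecoverage

/-- An object over a finite extension of `k`. -/
abbrev FinObj (x : 𝒢.obj) : Prop := IsFinPt (𝒢.p.obj x)

/-- An object over an algebraically closed field. -/
abbrev ACObj (y : 𝒢.obj) : Prop := IsACPt (𝒢.p.obj y)

/-- Pullback of an object, all properties transported. -/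
lemma exists_pullObj' (hp : FibCat.IsFibGrpd 𝒢.p) (x : 𝒢.obj)
    {T : Over (Spec (CommRingCat.of k))} (f : T ⟶ 𝒢.p.obj x) :
    ∃ (y : 𝒢.obj) (φ : y ⟶ x), ∀ (Q : ∀ V : Over (Spec (CommRingCat.of k)), (V ⟶ 𝒢.p.obj x) → Prop),
      Q T f → Q _ (𝒢.p.map φ) := by
  obtain ⟨y, φ, e, hφ⟩ := exists_pullObj hp x f
  subst e
  rw [eqToHom_refl, Category.id_comp] at hφ
  exact ⟨y, φ, fun Q h => hφ ▸ h⟩

/-- Members of a covering sieve through a given point. -/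
lemma exists_member (hp : FibCat.IsFibGrpd 𝒢.p) {x : 𝒢.obj} {R : Sieve x}
    (hR : R ∈ StCoh.J K₀ 𝒢 x) (t : (𝒢.p.obj x).left) :
    ∃ (η : 𝒢.obj) (φ : η ⟶ x), R φ ∧ Flat (𝒢.p.map φ).left ∧
      LocallyOfFinitePresentation (𝒢.p.map φ).left ∧ t ∈ Set.range (𝒢.p.map φ).left := by
  obtain ⟨κ, C, c, h1, h2, h3, h4⟩ :=
    H13AlgSp.exists_cover_of_mem_J ((H14Stk.mem_restricted_iff hp _ R).1 hR)
  obtain ⟨i, hi⟩ := h3 t
  obtain ⟨η, φ, hφ⟩ := exists_pullObj' hp x (c i)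
  exact ⟨η, φ, (H14Stk.push_map_iff hp R φ).1 (hφ (fun V g => R.functorPushforward 𝒢.p g) (h4 i)),
    hφ (fun V g => Flat g.left ∧ LocallyOfFinitePresentation g.left ∧ t ∈ Set.range g.left)
      ⟨h1 i, h2 i, hi⟩⟩

/-- A sieve with a flat, finitely presented member through each point covers. -/
lemma mem_of_members (hp : FibCat.IsFibGrpd 𝒢.p) {x : 𝒢.obj} {R : Sieve x}
    (h : ∀ t : (𝒢.p.obj x).left, ∃ (η : 𝒢.obj) (φ : η ⟶ x), R φ ∧ Flat (𝒢.p.map φ).left ∧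
      LocallyOfFinitePresentation (𝒢.p.map φ).left ∧ t ∈ Set.range (𝒢.p.map φ).left) :
    R ∈ StCoh.J K₀ 𝒢 x := by
  choose η φ hφ h1 h2 h3 using h
  refine (H14Stk.mem_restricted_iff hp _ R).2 ((QuotSh.J K₀ _).superset_covering ?_
    (H14Gerbe.mem_J_of_fppf (fun t => 𝒢.p.obj (η t)) (fun t => 𝒢.p.map (φ t)) h1 h2
      fun t => ⟨t, h3 t⟩))
  rintro V f ⟨W, a, _, ⟨t⟩, rfl⟩
  exact (R.functorPushforward 𝒢.p).downward_closed ((H14Stk.push_map_iff hp R _).2 (hφ t)) a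

lemma inf_mem {ι : Type*} (s : Finset ι) {x : 𝒢.obj} (R : ι → Sieve x)
    (h : ∀ i, R i ∈ StCoh.J K₀ 𝒢 x) : s.inf R ∈ StCoh.J K₀ 𝒢 x := by
  induction s using Finset.cons_induction with
  | empty => simp
  | cons i s _ ih => rw [Finset.inf_cons]; exact GrothendieckTopology.intersection_covering _ (h i) ih

/-- A covering sieve of an object over a finite extension has a member over a finite extension. -/
lemma exists_finObj_member (hp : FibCat.IsFibGrpd 𝒢.p) {x : 𝒢.obj} (hx : FinObj x) {R : Sieve x}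
    (hR : R ∈ StCoh.J K₀ 𝒢 x) : ∃ (η : 𝒢.obj) (φ : η ⟶ x), R φ ∧ FinObj η := by
  obtain ⟨t⟩ := hx.nonempty
  obtain ⟨η, φ, hφ, -, h2, ⟨v, -⟩⟩ := exists_member hp hR t
  have := lft_of_isFinPt hx
  have : LocallyOfFiniteType (𝒢.p.obj η).hom := by rw [← Over.w (𝒢.p.map φ)]; infer_instance
  obtain ⟨T, f, hT⟩ := exists_finPt_hom (U := 𝒢.p.obj η) ⟨v⟩
  obtain ⟨ζ, ψ, hψ⟩ := exists_pullObj' hp η f
  exact ⟨ζ, ψ ≫ φ, R.downward_closed hφ ψ, hψ (fun V _ => IsFinPt V) hT⟩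

/-- Geometric objects factor through members. -/
lemma exists_factor (hp : FibCat.IsFibGrpd 𝒢.p) {y ξ η : 𝒢.obj} (hy : ACObj y) (φ : y ⟶ ξ)
    (c : η ⟶ ξ) [LocallyOfFiniteType (𝒢.p.map c).left]
    (h : ∀ t : (𝒢.p.obj y).left, (𝒢.p.map φ).left t ∈ Set.range (𝒢.p.map c).left) :
    ∃ χ : y ⟶ η, χ ≫ c = φ := by
  obtain ⟨s, hs⟩ := exists_factor_of_isACPt hy (𝒢.p.map φ) (𝒢.p.map c) h
  obtain ⟨χ, -, hχ⟩ := exists_hom_over hp c φ s hs
  exact ⟨χ, hχ⟩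

/-- Covering sieves of geometric objects are trivial. -/
lemma id_mem (hp : FibCat.IsFibGrpd 𝒢.p) {y : 𝒢.obj} (hy : ACObj y) {R : Sieve y}
    (hR : R ∈ StCoh.J K₀ 𝒢 y) : R (𝟙 y) := by
  obtain ⟨t⟩ := hy.nonempty
  obtain ⟨η, φ, hφ, -, h2, ht⟩ := exists_member hp hR t
  have := hy.subsingleton
  obtain ⟨χ, hχ⟩ := exists_factor hp hy (𝟙 y) φ fun s => by
    rw [𝒢.p.map_id, Subsingleton.elim s t]; exact ht
  rw [← hχ]
  exact R.downward_closed hφ χ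

/-- A geometric object over a given point. -/
lemma exists_acObj_hom (hp : FibCat.IsFibGrpd 𝒢.p) {ξ : 𝒢.obj} (t : (𝒢.p.obj ξ).left) :
    ∃ (y : 𝒢.obj) (φ : y ⟶ ξ), ACObj y ∧ ∀ s, (𝒢.p.map φ).left s = t := by
  obtain ⟨T, a, hT, ha⟩ := exists_acPt_hom t
  obtain ⟨y, φ, e, hφ⟩ := exists_pullObj hp ξ a
  subst e
  rw [eqToHom_refl, Category.id_comp] at hφ
  exact ⟨y, φ, hT, hφ ▸ ha⟩

section Gerbe

variable (hger : Gerb.IsGerbe (QuotSh.J K₀ (Spec (CommRingCat.of k))) 𝒢)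
include hger

lemma exists_finObj : ∃ x : 𝒢.obj, FinObj x := by
  let T₀ : Over (Spec (CommRingCat.of k)) := Over.mk (𝟙 _)
  obtain ⟨R, hR, h⟩ := hger.2.1 T₀
  obtain ⟨κ, C, c, -, h2, h3, h4⟩ := H13AlgSp.exists_cover_of_mem_J hR
  obtain ⟨i, v, -⟩ := h3 (IsLocalRing.closedPoint k)
  have : LocallyOfFiniteType (C i).hom := by
    have := h2 i
    rw [← Over.w (c i)]
    change LocallyOfFiniteType ((c i).left ≫ 𝟙 _)
    rw [Category.comp_id]; infer_instance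
  obtain ⟨x, g, hg⟩ := h (c i) (h4 i)
  have hx : 𝒢.p.obj x = C i := IsHomLift.domain_eq (FibCat.selfOver _).p (c i) g
  obtain ⟨T, f, hT⟩ := exists_finPt_hom (U := C i) ⟨v⟩
  obtain ⟨y, φ, hy⟩ := exists_pullObj' hger.1.1 x (f ≫ eqToHom hx.symm)
  exact ⟨y, hy (fun V _ => IsFinPt V) hT⟩

/-- Any object maps locally to an object over a finite extension. -/
lemma hom_cover {x : 𝒢.obj} (hx : FinObj x) (ξ : 𝒢.obj) :
    ∃ R ∈ StCoh.J K₀ 𝒢 ξ, ∀ ⦃η : 𝒢.obj⦄ (φ : η ⟶ ξ), R φ → Nonempty (η ⟶ x) := by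
  have hp := hger.1.1
  let R : Sieve ξ :=
    { arrows := fun η _ => Nonempty (η ⟶ x)
      downward_closed := fun ⟨a⟩ g => ⟨g ≫ a⟩ }
  refine ⟨R, mem_of_members hp fun t => ?_, fun η φ h => h⟩
  let p₁ := pullback.fst (𝒢.p.obj ξ).hom (𝒢.p.obj x).hom
  let W : Over (Spec (CommRingCat.of k)) := Over.mk (p₁ ≫ (𝒢.p.obj ξ).hom)
  let q₁ : W ⟶ 𝒢.p.obj ξ := Over.homMk p₁ rfl
  let q₂ : W ⟶ 𝒢.p.obj x := Over.homMk (pullback.snd _ _) pullback.condition.symm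
  obtain ⟨u⟩ := hx.nonempty
  obtain ⟨w, hw, -⟩ := Scheme.Pullback.exists_preimage_pullback (f := (𝒢.p.obj ξ).hom)
    (g := (𝒢.p.obj x).hom) t u
    (@Subsingleton.elim _ (inferInstanceAs (Subsingleton (Spec (CommRingCat.of k)))) _ _)
  have hxf : Flat (𝒢.p.obj x).hom := H12AlgSp.flat_to_field _
  have hxl : LocallyOfFinitePresentation (𝒢.p.obj x).hom :=
    LocallyOfFinitePresentation.iff_locallyOfFiniteType.2 (lft_of_isFinPt hx)
  have : Flat q₁.left := MorphismProperty.pullback_fst _ _ hxf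
  have : LocallyOfFinitePresentation q₁.left := MorphismProperty.pullback_fst _ _ hxl
  obtain ⟨α, a, ea, ha⟩ := exists_pullObj hp ξ q₁
  obtain ⟨β, b, eb, -⟩ := exists_pullObj hp x q₂
  obtain ⟨R', hR', hloc⟩ := locIso_of_toSelf hger.2 α β ea eb
  obtain ⟨κ, C, c, h1, h2, h3, h4⟩ := H13AlgSp.exists_cover_of_mem_J hR'
  obtain ⟨i, v, hv⟩ := h3 w
  obtain ⟨x₀, φ, ψ, hφ, -⟩ := hloc (c i) (h4 i)
  have hx₀ : 𝒢.p.obj x₀ = C i := IsHomLift.domain_eq 𝒢.p (c i) φ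
  refine ⟨x₀, φ ≫ a, ⟨ψ ≫ b⟩, ?_⟩
  have e : 𝒢.p.map (φ ≫ a) = eqToHom hx₀ ≫ c i ≫ q₁ := by
    rw [𝒢.p.map_comp, IsHomLift.fac' 𝒢.p (c i) φ, ha]; simp
  rw [e, Over.comp_left, Over.comp_left]
  have := h1 i
  have := h2 i
  refine ⟨inferInstance, inferInstance, (eqToHom hx₀.symm).left v, ?_⟩
  rw [← Scheme.Hom.comp_apply, ← Over.comp_left_assoc, eqToHom_trans, eqToHom_refl, Over.id_left,
    Category.id_comp, Scheme.Hom.comp_apply, hv]
  exact hw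

lemma nonempty_hom {x : 𝒢.obj} (hx : FinObj x) {y : 𝒢.obj} (hy : ACObj y) :
    Nonempty (y ⟶ x) := by
  obtain ⟨R, hR, h⟩ := hom_cover hger hx y
  exact h _ (id_mem hger.1.1 hy hR)

end Gerbe

end Groth.Agent.H14GerbeCoh
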