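import Groth.Agent.H14GerbeCoh.Obj

/-!
# Splitting the arrows into a finite object
-/

set_option autoImplicit false
set_option backward.isDefEq.respectTransparency false
set_option backward.isDefEq.respectTransparency.types false

universe u

open CategoryTheory CategoryTheory.Functor CategoryTheory.Limits AlgebraicGeometry Opposite

noncomputable section

namespace Groth.Agent.H14GerbeCoh

open H14Fib H14Stk

variable {k : Type u} [Field k]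

local notation "K₀" => Scheme.fppfPrecoverage

lemma finite_hom {T P : Over (Spec (CommRingCat.of k))} (hT : IsFinPt T) [IsFinite P.hom] :
    Finite (T ⟶ P) := by
  obtain ⟨⟨L, _, ⟨e⟩⟩, hTf⟩ := hT
  have : IsAffine P.left := isAffine_of_isAffineHom P.hom
  let toB : k →+* Γ(P.left, ⊤) :=
    ((Scheme.ΓSpecIso (CommRingCat.of k)).inv ≫ P.hom.appTop).hom
  have hfinB : toB.Finite := by
    have h : IsAffine P.left ∧ RingHom.Finite P.hom.appTop.hom :=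
      (HasAffineProperty.iff_of_isAffine (P := @IsFinite)).1 inferInstance
    exact RingHom.Finite.comp h.2
      (RingHom.Finite.of_surjective _
        (ConcreteCategory.bijective_of_isIso (Scheme.ΓSpecIso (CommRingCat.of k)).inv).2)
  letI : Algebra k Γ(P.left, ⊤) := toB.toAlgebra
  have : Module.Finite k Γ(P.left, ⊤) := hfinB
  let f : k →+* L :=
    ((Scheme.ΓSpecIso (CommRingCat.of k)).inv ≫ (e.inv ≫ T.hom).appTop ≫
      (Scheme.ΓSpecIso (CommRingCat.of L)).hom).hom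
  letI : Algebra k L := f.toAlgebra
  let Φ : (T ⟶ P) → (Γ(P.left, ⊤) →ₐ[k] L) := fun r =>
    { ((e.inv ≫ r.left).appTop ≫ (Scheme.ΓSpecIso (CommRingCat.of L)).hom).hom with
      commutes' := fun c => by
        change ((Scheme.ΓSpecIso (CommRingCat.of k)).inv ≫ P.hom.appTop ≫ (e.inv ≫ r.left).appTop ≫
          (Scheme.ΓSpecIso (CommRingCat.of L)).hom) c = f c
        simp only [← Scheme.Hom.comp_appTop_assoc, Category.assoc, Over.w r]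
        rfl }
  refine Finite.of_injective Φ fun r r' h => Over.OverMorphism.ext ((cancel_epi e.inv).1
    (ext_of_isAffine ((cancel_mono (Scheme.ΓSpecIso (CommRingCat.of L)).hom).1 ?_)))
  ext b
  exact DFunLike.congr_fun h b

variable {𝒢 : AlgSt.Cat (Spec (CommRingCat.of k))}

lemma eq_of_comp_eq_obj {η x' ξ : 𝒢.obj} (hx : FinObj x') [IsFinite (𝒢.p.obj ξ).hom]
    (hne : Nonempty (𝒢.p.obj η).left) (v : η ⟶ x') {g g' : x' ⟶ ξ} (h : v ≫ g = v ≫ g') :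
    𝒢.p.map g = 𝒢.p.map g' := by
  have : IsAffine (𝒢.p.obj ξ).left := isAffine_of_isAffineHom (𝒢.p.obj ξ).hom
  refine eq_of_comp_eq hx hne (𝒢.p.map v) ?_
  rw [← 𝒢.p.map_comp, ← 𝒢.p.map_comp, h]

/-- A finite object over which all arrows to `x` are split. -/
structure Split (x : 𝒢.obj) where
  /-- the object -/
  pt : 𝒢.obj
  fin : FinObj pt
  /-- the arrows -/
  G : Finset (pt ⟶ x)
  near {η : 𝒢.obj} [IsReduced (𝒢.p.obj η).left] (v : η ⟶ pt) (a : η ⟶ x)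
    (t : (𝒢.p.obj η).left) :
    ∃ (g : pt ⟶ x) (W : (𝒢.p.obj η).left.Opens), g ∈ G ∧ t ∈ W ∧
      ∀ (η' : 𝒢.obj) (ω : η' ⟶ η), (∀ s, (𝒢.p.map ω).left s ∈ W) → ω ≫ a = ω ≫ v ≫ g
  inj {η : 𝒢.obj} (hne : Nonempty (𝒢.p.obj η).left) (v : η ⟶ pt) {g g' : pt ⟶ x} :
    v ≫ g = v ≫ g' → g = g'

theorem exists_split (hger : Gerb.IsGerbe (QuotSh.J K₀ (Spec (CommRingCat.of k))) 𝒢)
    (hI : AlgSt.RepByAlgSpWith AlgSp.IsFiniteMor (FibCat.inertiaToBase (FibCat.toSelf 𝒢)))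
    {x : 𝒢.obj} (hx : FinObj x) : Nonempty (Split x) := by
  classical
  have hp := hger.1.1
  have hxf : IsFinite (𝒢.p.obj x).hom := hx.2
  obtain ⟨Ta, fa, hTa, hsa⟩ := exists_splits hx (𝒢.p.obj x)
  obtain ⟨xa, ma, hma⟩ := exists_pullObj' hp x fa
  obtain ⟨hxa, hspl⟩ := hma (fun V _ => IsFinPt V ∧ Splits V (𝒢.p.obj x)) ⟨hTa, hsa⟩
  have : Finite (𝒢.p.obj xa ⟶ 𝒢.p.obj x) := finite_hom hxa
  cases nonempty_fintype (𝒢.p.obj xa ⟶ 𝒢.p.obj x)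
  let R : (𝒢.p.obj xa ⟶ 𝒢.p.obj x) → Sieve xa := fun r =>
    { arrows := fun η φ => ∃ g : η ⟶ x, 𝒢.p.map g = 𝒢.p.map φ ≫ r
      downward_closed := by
        rintro η η' φ ⟨g, hg⟩ h
        exact ⟨h ≫ g, by rw [𝒢.p.map_comp, 𝒢.p.map_comp, hg, Category.assoc]⟩ }
  have hR : ∀ r, R r ∈ StCoh.J K₀ 𝒢 xa := by
    intro r
    obtain ⟨xr, mr, er, hmr⟩ := exists_pullObj hp x r
    obtain ⟨R', hR', hloc⟩ := locIso_of_toSelf hger.2 xa xr rfl er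
    obtain ⟨κ, C, c, h1, h2, h3, h4⟩ := H13AlgSp.exists_cover_of_mem_J hR'
    refine mem_of_members hp fun t => ?_
    obtain ⟨i, hi⟩ := h3 t
    obtain ⟨x₀, φ, ψ, hφ, hψ⟩ := hloc (c i) (h4 i)
    have hx₀ : 𝒢.p.obj x₀ = C i := IsHomLift.domain_eq 𝒢.p (c i) φ
    have e1 : 𝒢.p.map φ = eqToHom hx₀ ≫ c i := by rw [IsHomLift.fac' 𝒢.p (c i) φ]; simp
    refine ⟨x₀, φ, ⟨ψ ≫ mr, ?_⟩, ?_⟩
    · rw [𝒢.p.map_comp, hmr, IsHomLift.fac' 𝒢.p (c i) ψ, e1]; simp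
    · rw [e1, Over.comp_left]
      have := h1 i
      have := h2 i
      obtain ⟨v, hv⟩ := hi
      refine ⟨inferInstance, inferInstance, (eqToHom hx₀.symm).left v, ?_⟩
      rw [← Scheme.Hom.comp_apply, ← Over.comp_left_assoc, eqToHom_trans, eqToHom_refl,
        Over.id_left, Category.id_comp]
      exact hv
  obtain ⟨xb, φb, hφb, hxb⟩ := exists_finObj_member hp hxa (inf_mem Finset.univ R hR)
  have hg : ∀ r, ∃ g : xb ⟶ x, 𝒢.p.map g = 𝒢.p.map φb ≫ r := fun r =>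
    (Finset.inf_le (Finset.mem_univ r) : Finset.univ.inf R ≤ R r) _ hφb
  choose g₀ hg₀ using hg
  have hxbf : IsFinite (𝒢.p.obj xb).hom := hxb.2
  obtain ⟨UA⟩ := exists_univAut hp hI xb (isAffine_of_isAffineHom (𝒢.p.obj xb).hom)
  have : IsFinite (𝒢.p.obj UA.pt).hom := UA.isFinite hxb.2
  have : IsAffine (𝒢.p.obj UA.pt).left := isAffine_of_isAffineHom (𝒢.p.obj UA.pt).hom
  have : IsAffine (𝒢.p.obj xb).left := isAffine_of_isAffineHom (𝒢.p.obj xb).hom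
  obtain ⟨Tc, fc, hTc, hsc⟩ := exists_splits hxb (𝒢.p.obj UA.pt)
  obtain ⟨x', c, hc⟩ := exists_pullObj' hp xb fc
  obtain ⟨hx', hspl'⟩ := hc (fun V _ => IsFinPt V ∧ Splits V (𝒢.p.obj UA.pt)) ⟨hTc, hsc⟩
  have hex : ∀ r₂ : {r₂ : 𝒢.p.obj x' ⟶ 𝒢.p.obj UA.pt // r₂ ≫ 𝒢.p.map UA.proj = 𝒢.p.map c},
      ∃ (χ : x' ⟶ UA.pt) (σ : x' ⟶ x'), 𝒢.p.map χ = r₂.1 ∧ χ ≫ UA.proj = c ∧
        𝒢.p.map σ = 𝟙 _ ∧ σ ≫ χ = χ ≫ UA.aut := by
    intro r₂
    obtain ⟨χ, hχ, hχ'⟩ := exists_hom_over hp UA.proj c r₂.1 r₂.2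
    obtain ⟨σ, hσ, hσ'⟩ := exists_hom_over hp χ (χ ≫ UA.aut) (𝟙 _)
      (by rw [𝒢.p.map_comp, isVert_endo_iff.1 UA.aut_vert, Category.id_comp, Category.comp_id])
    exact ⟨χ, σ, hχ, hχ', hσ, hσ'⟩
  choose χ σ hχ hχc hσ hσχ using hex
  have : Finite (𝒢.p.obj x' ⟶ 𝒢.p.obj UA.pt) := finite_hom hx'
  cases nonempty_fintype {r₂ : 𝒢.p.obj x' ⟶ 𝒢.p.obj UA.pt // r₂ ≫ 𝒢.p.map UA.proj = 𝒢.p.map c}
  refine ⟨⟨x', hx', Finset.univ.image (fun q : (𝒢.p.obj xa ⟶ 𝒢.p.obj x) ×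
    {r₂ : 𝒢.p.obj x' ⟶ 𝒢.p.obj UA.pt // r₂ ≫ 𝒢.p.map UA.proj = 𝒢.p.map c} =>
      σ q.2 ≫ c ≫ g₀ q.1), ?_, ?_⟩⟩
  · intro η _ v a t
    obtain ⟨W₁, r, ht, hW₁⟩ :=
      hspl (𝒢.p.obj η) (𝒢.p.map a) (𝒢.p.map (v ≫ c ≫ φb)) t
    let U₁ : Over (Spec (CommRingCat.of k)) := Over.mk (W₁.ι ≫ (𝒢.p.obj η).hom)
    let j₁ : U₁ ⟶ 𝒢.p.obj η := Over.homMk W₁.ι rfl
    obtain ⟨η₁, ι₁, e₁, hι₁⟩ := exists_pullObj hp η j₁
    have hι₁' : (𝒢.p.map ι₁).left = (eqToHom e₁).left ≫ W₁.ι := by rw [hι₁]; rfl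
    have : IsOpenImmersion (𝒢.p.map ι₁).left := by rw [hι₁']; infer_instance
    have : IsReduced (𝒢.p.obj η₁).left := isReduced_of_isOpenImmersion (𝒢.p.map ι₁).left
    let a₁ := ι₁ ≫ a
    let b₁ := (ι₁ ≫ v) ≫ c ≫ g₀ r
    have hpar : 𝒢.p.map a₁ = 𝒢.p.map b₁ := by
      refine Over.OverMorphism.ext ?_
      simp only [a₁, b₁, 𝒢.p.map_comp, hg₀, Over.comp_left, hι₁', Category.assoc]
      rw [hW₁]
      simp only [𝒢.p.map_comp, Over.comp_left, Category.assoc]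
    obtain ⟨θ, hθ, hθ'⟩ := exists_hom_over hp b₁ a₁ (𝟙 _) (by rw [Category.id_comp, hpar])
    have hθv : IsVert θ := isVert_endo_iff.2 hθ
    obtain ⟨χ₁, hχ₁, hχ₁'⟩ := UA.exists_lift ((ι₁ ≫ v) ≫ c) θ hθv
    have ht₁ : (eqToHom e₁.symm).left ⟨t, ht⟩ ∈ (⊤ : (𝒢.p.obj η₁).left.Opens) := trivial
    obtain ⟨W₂, r₂, ht₂, hW₂⟩ := hspl' (𝒢.p.obj η₁) (𝒢.p.map χ₁) (𝒢.p.map (ι₁ ≫ v))
      ((eqToHom e₁.symm).left ⟨t, ht⟩)
    have hr₂ : r₂ ≫ 𝒢.p.map UA.proj = 𝒢.p.map c := by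
      let q : Over.mk (W₂.ι ≫ (𝒢.p.obj η₁).hom) ⟶ 𝒢.p.obj η₁ := Over.homMk W₂.ι rfl
      refine eq_of_comp_eq hx' ?_ (q ≫ 𝒢.p.map (ι₁ ≫ v)) ?_
      · exact ⟨⟨_, ht₂⟩⟩
      · refine Over.OverMorphism.ext ?_
        have h2 := congrArg (fun f => f ≫ (𝒢.p.map UA.proj).left) hW₂
        have h3 : (𝒢.p.map χ₁).left ≫ (𝒢.p.map UA.proj).left =
            (𝒢.p.map (ι₁ ≫ v)).left ≫ (𝒢.p.map c).left := by
          rw [← Over.comp_left, ← Over.comp_left, ← 𝒢.p.map_comp, ← 𝒢.p.map_comp, hχ₁]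
        simp only [Category.assoc, h3] at h2
        simp only [Over.comp_left, Category.assoc]
        exact h2.symm
    refine ⟨σ ⟨r₂, hr₂⟩ ≫ c ≫ g₀ r, (𝒢.p.map ι₁).left ''ᵁ W₂,
      Finset.mem_image.2 ⟨(r, ⟨r₂, hr₂⟩), Finset.mem_univ _, rfl⟩, ?_, ?_⟩
    · refine ⟨_, ht₂, ?_⟩
      change ((eqToHom e₁.symm).left ≫ (𝒢.p.map ι₁).left) ⟨t, ht⟩ = t
      rw [hι₁', ← Category.assoc, ← Over.comp_left, eqToHom_trans, eqToHom_refl, Over.id_left,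
        Category.id_comp]
      rfl
    · intro η' ω hω
      have hle : Set.range (𝒢.p.map ω).left ⊆ Set.range (W₂.ι ≫ (𝒢.p.map ι₁).left) := by
        rintro _ ⟨s, rfl⟩
        obtain ⟨w, hw, hw'⟩ := hω s
        exact ⟨⟨w, hw⟩, hw'⟩
      let l := IsOpenImmersion.lift (W₂.ι ≫ (𝒢.p.map ι₁).left) (𝒢.p.map ω).left hle
      have hl : l ≫ W₂.ι ≫ (𝒢.p.map ι₁).left = (𝒢.p.map ω).left :=
        IsOpenImmersion.lift_fac _ _ _
      let g : 𝒢.p.obj η' ⟶ 𝒢.p.obj η₁ := Over.homMk (l ≫ W₂.ι) (by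
        rw [← Over.w (𝒢.p.map ι₁), ← Over.w (𝒢.p.map ω), ← hl]; simp)
      obtain ⟨ω₁, hω₁, hω₁'⟩ := exists_hom_over hp ι₁ ω g
        (Over.OverMorphism.ext (by simp only [g, Over.comp_left, Over.homMk_left, Category.assoc, hl]))
      subst hω₁'
      let w := ω₁ ≫ ι₁ ≫ v
      have hκ : w ≫ χ ⟨r₂, hr₂⟩ = ω₁ ≫ χ₁ := by
        refine hom_over_ext hp UA.proj (Over.OverMorphism.ext ?_) ?_
        · simp only [w, 𝒢.p.map_comp, hχ, hω₁, g, Over.comp_left, Over.homMk_left, Category.assoc,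
            hW₂]
        · simp only [w, Category.assoc, hχc, hχ₁]
      obtain ⟨θ', hθ₁, hθ₁'⟩ := exists_hom_over hp ω₁ (ω₁ ≫ θ) (𝟙 _)
        (by rw [𝒢.p.map_comp, hθ, Category.id_comp, Category.comp_id])
      have hσ' : θ' ≫ w = w ≫ σ ⟨r₂, hr₂⟩ := by
        refine hom_over_ext hp (χ ⟨r₂, hr₂⟩) ?_ ?_
        · simp only [w, 𝒢.p.map_comp, hθ₁, hσ, Category.id_comp, Category.comp_id, Category.assoc]
        · rw [Category.assoc, hκ, ← Category.assoc θ', hθ₁', Category.assoc, hχ₁',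
            ← Category.assoc, ← hκ]
          simp only [w, Category.assoc, hσχ]
      calc (ω₁ ≫ ι₁) ≫ a = ω₁ ≫ θ ≫ b₁ := by rw [Category.assoc, hθ']
        _ = θ' ≫ w ≫ c ≫ g₀ r := by
          rw [← Category.assoc, ← hθ₁']
          simp only [w, b₁, Category.assoc]
        _ = _ := by
          rw [← Category.assoc θ', hσ']
          simp only [w, Category.assoc]
  · intro η hne v g g' h
    have hg : 𝒢.p.map g = 𝒢.p.map g' := eq_of_comp_eq_obj hx' hne v h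
    obtain ⟨τ, hτ, hτ'⟩ := exists_hom_over hp g g' (𝟙 _) (by rw [Category.id_comp, hg])
    have hvτ : v ≫ τ = v := hom_over_ext hp g
      (by rw [𝒢.p.map_comp, hτ, Category.comp_id]) (by rw [Category.assoc, hτ', h])
    obtain ⟨χτ, hχτ, hχτ'⟩ := UA.exists_lift c τ (isVert_endo_iff.2 hτ)
    obtain ⟨χ₁, hχ₁, hχ₁'⟩ := UA.exists_lift c (𝟙 x') (isVert_endo_iff.2 (𝒢.p.map_id _))
    have hv : v ≫ χτ = v ≫ χ₁ := by
      refine UA.lift_unique (𝟙 η) (isVert_endo_iff.2 (𝒢.p.map_id _)) _ _ ?_ ?_ ?_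
      · rw [Category.assoc, Category.assoc, hχτ, hχ₁]
      · rw [Category.id_comp, Category.assoc, ← hχτ', ← Category.assoc, hvτ]
      · rw [Category.id_comp, Category.assoc, ← hχ₁', Category.id_comp]
    have he : χτ = χ₁ :=
      hom_over_ext hp UA.proj (eq_of_comp_eq_obj hx' hne v hv) (by rw [hχτ, hχ₁])
    have : τ = 𝟙 x' := hom_over_ext hp χ₁ (by rw [hτ, 𝒢.p.map_id]) (by
      rw [hχ₁', ← he]; exact hχτ')
    rw [← hτ', this, Category.id_comp]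

namespace Split

variable {x : 𝒢.obj} (X : Split x)

/-- At a geometric object, the arrows to `x` are the given ones. -/
lemma bijective {y : 𝒢.obj} (hy : ACObj y) (v : y ⟶ X.pt) :
    Function.Bijective fun g : X.G => v ≫ g.1 := by
  refine ⟨fun g g' h => Subtype.ext (X.inj hy.nonempty v h), fun a => ?_⟩
  obtain ⟨t⟩ := hy.nonempty
  have := hy.isReduced
  have := hy.subsingleton
  obtain ⟨g, W, hg, ht, h⟩ := X.near v a t
  refine ⟨⟨g, hg⟩, ?_⟩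
  have := h y (𝟙 y) fun s => by rw [Subsingleton.elim ((𝒢.p.map (𝟙 y)).left s) t]; exact ht
  rw [Category.id_comp, Category.id_comp] at this
  exact this.symm

end Split

end Groth.Agent.H14GerbeCoh
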