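import Groth.Agent.H14GerbeCoh.Val
import Groth.Agent.H14GerbeCoh.Split
import Mathlib.Algebra.Group.Torsion

/-!
# First cohomology of a gerbe with finite inertia and torsion-free constant coefficients
-/

set_option autoImplicit false
set_option backward.isDefEq.respectTransparency false
set_option backward.isDefEq.respectTransparency.types false

universe u

open CategoryTheory CategoryTheory.Limits AlgebraicGeometry Opposite

noncomputable section

namespace Groth.Agent.H14GerbeCoh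

variable {k : Type u} [Field k] {𝒢 : AlgSt.Cat (Spec (CommRingCat.of k))} {M : Type} [AddCommGroup M]

local notation "K₀" => Scheme.fppfPrecoverage

/-- Summing over the arrows from a geometric object. -/
lemma finsum_hom {x : 𝒢.obj} (X : Split x) {y : 𝒢.obj} (hy : ACObj y) (v : y ⟶ X.pt)
    (f : (y ⟶ x) → M) : ∑ᶠ b, f b = ∑ g ∈ X.G, f (v ≫ g) := by
  rw [← finsum_comp_equiv (Equiv.ofBijective _ (X.bijective hy v)), finsum_eq_sum_of_fintype,
    ← Finset.sum_coe_sort X.G]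
  rfl

variable (hger : Gerb.IsGerbe (QuotSh.J K₀ (Spec (CommRingCat.of k))) 𝒢)
include hger

lemma card_pos {x : 𝒢.obj} (hx : FinObj x) (X : Split x) : 0 < X.G.card := by
  obtain ⟨t⟩ := hx.nonempty
  obtain ⟨y, φ, hy, -⟩ := exists_acObj_hom hger.1.1 t
  obtain ⟨v⟩ := nonempty_hom hger X.fin hy
  obtain ⟨⟨g, hg⟩, -⟩ := (X.bijective hy v).2 φ
  exact Finset.card_pos.2 ⟨g, hg⟩

lemma finite_hom_obj {x : 𝒢.obj} (X : Split x) {y : 𝒢.obj} (hy : ACObj y) :
    Finite (y ⟶ x) :=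
  let ⟨v⟩ := nonempty_hom hger X.fin hy
  Finite.of_surjective _ (X.bijective hy v).2

lemma finsum_const {x : 𝒢.obj} (X : Split x) {y : 𝒢.obj} (hy : ACObj y) (m : M) :
    ∑ᶠ _b : y ⟶ x, m = X.G.card • m := by
  obtain ⟨v⟩ := nonempty_hom hger X.fin hy
  rw [finsum_hom X hy v, Finset.sum_const]

lemma finsum_sub {x : 𝒢.obj} (X : Split x) {y : 𝒢.obj} (hy : ACObj y) (f f' : (y ⟶ x) → M) :
    ∑ᶠ b, (f b - f' b) = ∑ᶠ b, f b - ∑ᶠ b, f' b := by
  obtain ⟨v⟩ := nonempty_hom hger X.fin hy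
  simp only [finsum_hom X hy v, Finset.sum_sub_distrib]

lemma finsum_add {x : 𝒢.obj} (X : Split x) {y : 𝒢.obj} (hy : ACObj y) (f f' : (y ⟶ x) → M) :
    ∑ᶠ b, (f b + f' b) = ∑ᶠ b, f b + ∑ᶠ b, f' b := by
  obtain ⟨v⟩ := nonempty_hom hger X.fin hy
  simp only [finsum_hom X hy v, Finset.sum_add_distrib]

/-- Summing over all arrows to `x` preserves being given by a section. -/
lemma realised_finsum {x : 𝒢.obj} (X : Split x) {ξ : 𝒢.obj}
    (Ψ : ∀ y : 𝒢.obj, ACObj y → (y ⟶ ξ) → (y ⟶ x) → M)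
    (h : ∀ (η : 𝒢.obj) (g : η ⟶ ξ) (v : η ⟶ X.pt) (e : X.pt ⟶ x), e ∈ X.G →
      Realised hger.1.1 (fun y hy (φ : y ⟶ η) => Ψ y hy (φ ≫ g) (φ ≫ v ≫ e))) :
    Realised hger.1.1 (fun y hy φ => ∑ᶠ b, Ψ y hy φ b) := by
  obtain ⟨R, hR, hv⟩ := hom_cover hger X.fin ξ
  refine realised_of_cover hger.1.1 hR fun η g hg => ?_
  obtain ⟨v⟩ := hv g hg
  refine (realised_sum hger.1.1 X.G fun e he => h η g v e he).congr hger.1.1 fun y hy φ => ?_
  rw [finsum_hom X hy (φ ≫ v)]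
  exact Finset.sum_congr rfl fun e _ => by rw [Category.assoc]

/-- A section realising a function on a finite object has the same value everywhere. -/
lemma realised_const {x : 𝒢.obj} (hx : FinObj x) {Φ : ∀ y : 𝒢.obj, ACObj y → (y ⟶ x) → M}
    (h : Realised hger.1.1 Φ) : ∃ m, ∀ y hy φ, Φ y hy φ = m := by
  obtain ⟨s, hs⟩ := h
  obtain ⟨m, rfl⟩ := exists_cst_of_finObj hger.1.1 hx s
  exact ⟨m, fun y hy φ => by rw [← hs y hy φ, evAt_cst]⟩

/-- Differences of local lifts. -/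
lemma exists_diff {F I Q : StCoh.Ab K₀ 𝒢} {i : F ⟶ I} {π : I ⟶ Q} {w : i ≫ π = 0}
    (hS : (ShortComplex.mk i π w).ShortExact) (q : Glob Q) {x : 𝒢.obj} (l : sec I x)
    (hl : app π x l = q.1 x) :
    ∃ c : ∀ (ξ : 𝒢.obj), (ξ ⟶ x) → (ξ ⟶ x) → sec F ξ,
      (∀ ξ a b, app i ξ (c ξ a b) = res I a l - res I b l) ∧
      (∀ ξ η (f : η ⟶ ξ) a b, res F f (c ξ a b) = c η (f ≫ a) (f ≫ b)) ∧
      ∀ ξ a b d, c ξ a b + c ξ b d = c ξ a d := by
  have : ∀ (ξ : 𝒢.obj) (a b : ξ ⟶ x), ∃ t, app i ξ t = res I a l - res I b l := fun ξ a b =>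
    exists_of_app_eq_zero w hS (by rw [map_sub, app_res, app_res, hl, q.2, q.2, sub_self])
  choose c hc using this
  refine ⟨c, hc, fun ξ η f a b => app_injective w hS η ?_, fun ξ a b d => app_injective w hS ξ ?_⟩
  · rw [app_res, hc, hc, map_sub, ← res_comp, ← res_comp]
  · rw [map_add, hc, hc, hc]; abel

theorem subsingleton_H1_cF
    (hI : AlgSt.RepByAlgSpWith AlgSp.IsFiniteMor (FibCat.inertiaToBase (FibCat.toSelf 𝒢)))
    [IsAddTorsionFree M] : Subsingleton (StCoh.H K₀ (cF M 𝒢) 1) := by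
  obtain ⟨I, Q, i, π, w, hinj, hS⟩ := exists_injective_seq (cF M 𝒢)
  refine subsingleton_H1 w hS fun q => ?_
  obtain ⟨x₀, hx₀⟩ := exists_finObj hger
  obtain ⟨R, hR, hlift⟩ := exists_local_lift w hS (q.1 x₀)
  obtain ⟨x, φ, hφ, hx⟩ := exists_finObj_member hger.1.1 hx₀ hR
  obtain ⟨l, hl⟩ := hlift φ hφ
  rw [q.2] at hl
  obtain ⟨c, hc, hcn, hcc⟩ := exists_diff hger hS q l hl
  obtain ⟨X⟩ := exists_split hger hI hx
  have hp := hger.1.1
  let C : ∀ (y : 𝒢.obj), ACObj y → (y ⟶ x) → (y ⟶ x) → M := fun y hy a b =>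
    evAt hp hy (𝟙 y) (c y a b)
  have hN : Realised hp (fun y hy (a : y ⟶ x) => ∑ᶠ b, C y hy a b) := by
    refine realised_finsum hger X (fun y hy a b => C y hy a b) fun η g v e _ => ?_
    refine (realised_evAt hp (c η g (v ≫ e))).congr hp fun y hy φ => ?_
    change evAt hp hy φ _ = evAt hp hy (𝟙 y) _
    rw [← hcn, evAt_res, Category.id_comp]
  obtain ⟨m, hm⟩ := realised_const hger hx hN
  have h0 : ∀ y hy a b, C y hy a b = 0 := by
    intro y hy a b
    have h1 : ∑ᶠ d, C y hy a d - ∑ᶠ d, C y hy b d = X.G.card • C y hy a b := by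
      rw [← finsum_sub hger X hy, ← finsum_const hger X hy (C y hy a b)]
      refine finsum_congr fun d => ?_
      change evAt hp hy _ _ - evAt hp hy _ _ = evAt hp hy _ _
      rw [← hcc y a b d, map_add, add_sub_cancel_right]
    rw [hm y hy a, hm y hy b, sub_self] at h1
    exact (nsmul_eq_zero_iff_right (card_pos hger hx X).ne').1 h1.symm
  have hw : ∀ (ξ : 𝒢.obj) (a b : ξ ⟶ x), res I a l = res I b l := by
    intro ξ a b
    have : c ξ a b = 0 := sec_eq_of_evAt hp fun y hy φ => by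
      rw [map_zero, ← h0 y hy (φ ≫ a) (φ ≫ b)]
      change _ = evAt hp hy (𝟙 y) _
      rw [← hcn, evAt_res, Category.id_comp]
    rw [← sub_eq_zero, ← hc, this, map_zero]
  obtain ⟨s, hs⟩ := exists_glob_of_eq I (fun ξ => hom_cover hger hx ξ) l hw
  refine ⟨s, fun ξ => ?_⟩
  let q' : Glob Q := ⟨fun y => app π y (s.1 y), fun a b f => by rw [← app_res, s.2]⟩
  have : q' = q := glob_ext Q (fun ξ => hom_cover hger hx ξ) (x := x) (by
    change app π x (s.1 x) = _
    rw [hs, hl])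
  exact congrArg (fun r : Glob Q => r.1 ξ) this

end Groth.Agent.H14GerbeCoh
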