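import Groth.Agent.H14GerbeCoh.One
import Groth.Agent.H14GerbeCoh.Extend
import Groth.Agent.H8Props.Reduced
import Mathlib.Algebra.Module.Rat
import Mathlib.Algebra.Module.NatInt

/-!
# Second cohomology of a gerbe with finite inertia and rational constant coefficients
-/

set_option autoImplicit false
set_option backward.isDefEq.respectTransparency false
set_option backward.isDefEq.respectTransparency.types false

universe u

open CategoryTheory CategoryTheory.Limits AlgebraicGeometry Opposite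

noncomputable section

namespace Groth.Agent.H14GerbeCoh

variable {k : Type u} [Field k] {𝒢 : AlgSt.Cat (Spec (CommRingCat.of k))}
  {M : Type} [AddCommGroup M] [Module ℚ M]

local notation "K₀" => Scheme.fppfPrecoverage

variable (hger : Gerb.IsGerbe (QuotSh.J K₀ (Spec (CommRingCat.of k))) 𝒢)
include hger

/-- The reduction of an object. -/
lemma exists_red (ξ : 𝒢.obj) : ∃ (η : 𝒢.obj) (j : η ⟶ ξ), IsReduced (𝒢.p.obj η).left ∧
    IsClosedImmersion (𝒢.p.map j).left ∧ Function.Surjective (𝒢.p.map j).left := by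
  let X := (𝒢.p.obj ξ).left
  obtain ⟨η, j, h⟩ := exists_pullObj' hger.1.1 ξ (Over.homMk
    (U := Over.mk (X.nilradical.subschemeι ≫ (𝒢.p.obj ξ).hom)) X.nilradical.subschemeι rfl)
  refine ⟨η, j, h (fun V q => IsReduced V.left ∧ IsClosedImmersion q.left ∧
    Function.Surjective q.left) ⟨H8Props.isReduced_nilradical_subscheme X,
      inferInstanceAs (IsClosedImmersion X.nilradical.subschemeι), fun z => ?_⟩⟩
  have : z ∈ Set.range X.nilradical.subschemeι := by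
    rw [Scheme.IdealSheafData.range_subschemeι, Scheme.support_nilradical]; trivial
  exact this

variable {I Q : StCoh.Ab K₀ 𝒢} {i : cF M 𝒢 ⟶ I} {π : I ⟶ Q} {w : i ≫ π = 0}
  (hS : (ShortComplex.mk i π w).ShortExact)
include hS

omit [Module ℚ M] in
lemma valI_exists {y : 𝒢.obj} (hy : ACObj y) :
    ∃ v : sec I y → M, ∀ t, v (app i y t) = ev hger.1.1 hy t := by
  classical
  refine ⟨fun z => if h : ∃ t, app i y t = z then ev hger.1.1 hy h.choose else 0, fun t => ?_⟩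
  have h : ∃ t', app i y t' = app i y t := ⟨t, rfl⟩
  simp only [dif_pos h]
  rw [app_injective w hS y h.choose_spec]

/-- A section of `I` killed by `π` at geometric objects has a value. -/
def valI {y : 𝒢.obj} (hy : ACObj y) : sec I y → M := (valI_exists hger hS hy).choose

omit [Module ℚ M] in
lemma valI_app {y : 𝒢.obj} (hy : ACObj y) (t : sec (cF M 𝒢) y) :
    valI hger hS hy (app i y t) = ev hger.1.1 hy t := (valI_exists hger hS hy).choose_spec t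

omit [Module ℚ M] in
lemma valI_add {y : 𝒢.obj} (hy : ACObj y) {z : sec I y} (hz : app π y z = 0)
    (t : sec (cF M 𝒢) y) :
    valI hger hS hy (z + app i y t) = valI hger hS hy z + ev hger.1.1 hy t := by
  obtain ⟨u, rfl⟩ := exists_of_app_eq_zero w hS hz
  rw [← map_add, valI_app, valI_app, map_add]

/-- Natural families over pairs of arrows into a finite object lift along `π`. -/
theorem exists_lift_pairs
    (hI : AlgSt.RepByAlgSpWith AlgSp.IsFiniteMor (FibCat.inertiaToBase (FibCat.toSelf 𝒢)))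
    {x : 𝒢.obj} (hx : FinObj x) (c : ∀ ξ : 𝒢.obj, (ξ ⟶ x) → (ξ ⟶ x) → sec Q ξ)
    (hn : ∀ ξ η (f : η ⟶ ξ) a b, res Q f (c ξ a b) = c η (f ≫ a) (f ≫ b)) :
    ∃ d : ∀ ξ : 𝒢.obj, (ξ ⟶ x) → (ξ ⟶ x) → sec I ξ,
      (∀ ξ η (f : η ⟶ ξ) a b, res I f (d ξ a b) = d η (f ≫ a) (f ≫ b)) ∧
      ∀ ξ a b, app π ξ (d ξ a b) = c ξ a b := by
  classical
  have hp := hger.1.1
  obtain ⟨X⟩ := exists_split hger hI hx
  have hsv : ∀ p : (X.pt ⟶ x) × (X.pt ⟶ x), ∃ R ∈ StCoh.J K₀ 𝒢 X.pt,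
      ∀ ⦃η : 𝒢.obj⦄ (φ : η ⟶ X.pt), R φ → ∃ l, app π η l = res Q φ (c X.pt p.1 p.2) :=
    fun p => exists_local_lift w hS _
  choose R hR hRl using hsv
  have hfin : (X.G ×ˢ X.G).inf R ∈ StCoh.J K₀ 𝒢 X.pt := inf_mem _ R hR
  obtain ⟨x₂, q₀, hq₀, hx₂⟩ := exists_finObj_member hp X.fin hfin
  have hρ : ∀ p : (X.pt ⟶ x) × (X.pt ⟶ x), p ∈ X.G ×ˢ X.G →
      ∃ l, app π x₂ l = c x₂ (q₀ ≫ p.1) (q₀ ≫ p.2) := fun p hp' => by
    rw [← hn]
    exact hRl p q₀ ((Finset.inf_le hp' : (X.G ×ˢ X.G).inf R ≤ R p) _ hq₀)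
  choose ρ hρ using hρ
  obtain ⟨X₂⟩ := exists_split hger hI hx₂
  let ρ' : (X.pt ⟶ x) × (X.pt ⟶ x) → sec I x₂ := fun p =>
    if h : p ∈ X.G ×ˢ X.G then ρ p h else 0
  have hρ' : ∀ p, p ∈ X.G ×ˢ X.G → app π x₂ (ρ' p) = c x₂ (q₀ ≫ p.1) (q₀ ≫ p.2) := fun p h => by
    simp only [ρ', dif_pos h, hρ]
  -- the comparison at a geometric point with a chosen lift
  let Δ : ∀ {ξ : 𝒢.obj} (_ _ : ξ ⟶ x) (_ : sec I ξ) (y : 𝒢.obj), ACObj y → (y ⟶ ξ) →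
      (y ⟶ x₂) → M := fun {ξ} a b ℓ y hy φ u =>
    ∑ p ∈ X.G ×ˢ X.G, if u ≫ q₀ ≫ p.1 = φ ≫ a ∧ u ≫ q₀ ≫ p.2 = φ ≫ b then
      valI hger hS hy (res I φ ℓ - res I u (ρ' p)) else 0
  have hΔ : ∀ {ξ : 𝒢.obj} (a b : ξ ⟶ x) (ℓ : sec I ξ) (y : 𝒢.obj) (hy : ACObj y) (φ : y ⟶ ξ)
      (u : y ⟶ x₂) (p : (X.pt ⟶ x) × (X.pt ⟶ x)), p ∈ X.G ×ˢ X.G →
      u ≫ q₀ ≫ p.1 = φ ≫ a → u ≫ q₀ ≫ p.2 = φ ≫ b →
      Δ a b ℓ y hy φ u = valI hger hS hy (res I φ ℓ - res I u (ρ' p)) := by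
    intro ξ a b ℓ y hy φ u p hp' h1 h2
    simp only [Δ]
    rw [Finset.sum_eq_single p]
    · rw [if_pos ⟨h1, h2⟩]
    · intro p' _ hne
      rw [if_neg]
      rintro ⟨h1', h2'⟩
      refine hne (Prod.ext (X.inj hy.nonempty (u ≫ q₀) ?_) (X.inj hy.nonempty (u ≫ q₀) ?_))
      · rw [Category.assoc, Category.assoc, h1, h1']
      · rw [Category.assoc, Category.assoc, h2, h2']
    · exact fun h => absurd hp' h
  have hpair : ∀ {ξ : 𝒢.obj} (a b : ξ ⟶ x) (y : 𝒢.obj) (_ : ACObj y) (φ : y ⟶ ξ) (u : y ⟶ x₂),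
      ∃ p ∈ X.G ×ˢ X.G, u ≫ q₀ ≫ p.1 = φ ≫ a ∧ u ≫ q₀ ≫ p.2 = φ ≫ b := by
    intro ξ a b y hy φ u
    obtain ⟨⟨g, hg⟩, h1⟩ := (X.bijective hy (u ≫ q₀)).2 (φ ≫ a)
    obtain ⟨⟨g', hg'⟩, h2⟩ := (X.bijective hy (u ≫ q₀)).2 (φ ≫ b)
    exact ⟨(g, g'), Finset.mk_mem_product hg hg', (Category.assoc _ _ _).symm.trans h1,
      (Category.assoc _ _ _).symm.trans h2⟩
  have hπ : ∀ {ξ : 𝒢.obj} {a b : ξ ⟶ x} {ℓ : sec I ξ} (_ : app π ξ ℓ = c ξ a b) {η : 𝒢.obj}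
      (φ : η ⟶ ξ) (u : η ⟶ x₂) (p : (X.pt ⟶ x) × (X.pt ⟶ x)), p ∈ X.G ×ˢ X.G →
      u ≫ q₀ ≫ p.1 = φ ≫ a → u ≫ q₀ ≫ p.2 = φ ≫ b →
      app π η (res I φ ℓ - res I u (ρ' p)) = 0 := by
    intro ξ a b ℓ hℓ η φ u p hp' h1 h2
    rw [map_sub, app_res, app_res, hℓ, hρ' p hp', hn, hn, h1, h2, sub_self]
  have hreal : ∀ {ξ : 𝒢.obj} (a b : ξ ⟶ x) (ℓ : sec I ξ), app π ξ ℓ = c ξ a b →
      Realised hp (fun y hy φ => ((X₂.G.card : ℚ)⁻¹) • ∑ᶠ u, Δ a b ℓ y hy φ u) := by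
    intro ξ a b ℓ hℓ
    refine Realised.map hp ?_
      (DistribSMul.toAddMonoidHom M ((X₂.G.card : ℚ)⁻¹))
    refine realised_finsum hger X₂ _ fun η g v e _ => ?_
    let u₀ := v ≫ e
    refine realised_of_locally_const hp fun t => ?_
    obtain ⟨ηr, j, hred, hjc, hjs⟩ := exists_red hger η
    obtain ⟨t', rfl⟩ := hjs t
    obtain ⟨g₁, W₁, hg₁, ht₁, hW₁⟩ := X.near (j ≫ u₀ ≫ q₀) (j ≫ g ≫ a) t'
    obtain ⟨g₂, W₂, hg₂, ht₂, hW₂⟩ := X.near (j ≫ u₀ ≫ q₀) (j ≫ g ≫ b) t'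
    let W := W₁ ⊓ W₂
    obtain ⟨ηW, ω, hω⟩ := exists_pullObj' hp ηr
      (Over.homMk (U := Over.mk (W.ι ≫ (𝒢.p.obj ηr).hom)) W.ι rfl)
    obtain ⟨hωo, hωr, ⟨t'', ht''⟩⟩ := hω
      (fun V q => IsOpenImmersion q.left ∧ (∀ z, q.left z ∈ W) ∧ t' ∈ Set.range q.left)
      ⟨inferInstanceAs (IsOpenImmersion W.ι), fun z => Subtype.prop z,
        ⟨⟨t', ht₁, ht₂⟩, rfl⟩⟩
    have e₁ : (ω ≫ j ≫ u₀) ≫ q₀ ≫ g₁ = (ω ≫ j ≫ g) ≫ a := by
      have := hW₁ ηW ω fun s => (hωr s).1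
      simpa only [Category.assoc] using this.symm
    have e₂ : (ω ≫ j ≫ u₀) ≫ q₀ ≫ g₂ = (ω ≫ j ≫ g) ≫ b := by
      have := hW₂ ηW ω fun s => (hωr s).2
      simpa only [Category.assoc] using this.symm
    have hmem : (g₁, g₂) ∈ X.G ×ˢ X.G := Finset.mk_mem_product hg₁ hg₂
    obtain ⟨f, hf⟩ := exists_of_app_eq_zero w hS
      (hπ hℓ (ω ≫ j ≫ g) (ω ≫ j ≫ u₀) (g₁, g₂) hmem e₁ e₂)
    obtain ⟨W₃, m, ht₃, hW₃⟩ := exists_open_level hp f t''
    have hemb : Topology.IsEmbedding (𝒢.p.map j).left :=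
      (𝒢.p.map j).left.isClosedEmbedding.isEmbedding
    have hopen : IsOpen ((𝒢.p.map j).left '' ((𝒢.p.map ω).left '' (W₃ : Set _))) :=
      (hemb.toHomeomorphOfSurjective hjs).isOpenMap _
        ((𝒢.p.map ω).left.isOpenEmbedding.isOpenMap _ W₃.2)
    refine ⟨⟨_, hopen⟩, m, ⟨t', ⟨t'', ht₃, ht''⟩, rfl⟩, fun y hy φ hφ => ?_⟩
    have hlft : LocallyOfFiniteType (𝒢.p.map (ω ≫ j)).left := by
      rw [𝒢.p.map_comp, Over.comp_left]; infer_instance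
    obtain ⟨χ, rfl⟩ := exists_factor hp hy φ (ω ≫ j) fun z => by
      obtain ⟨_, ⟨s, -, rfl⟩, hs⟩ := hφ z
      exact ⟨s, by rw [𝒢.p.map_comp, Over.comp_left, Scheme.Hom.comp_apply]; exact hs⟩
    have hχ : ∀ z, (𝒢.p.map χ).left z ∈ W₃ := by
      intro z
      obtain ⟨_, ⟨s, hs₀, rfl⟩, hs⟩ := hφ z
      rw [𝒢.p.map_comp, 𝒢.p.map_comp, Over.comp_left, Over.comp_left, Scheme.Hom.comp_apply,
        Scheme.Hom.comp_apply] at hs
      rwa [← (𝒢.p.map ω).left.isOpenEmbedding.injective (hemb.injective hs)]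
    beta_reduce
    rw [hΔ a b ℓ y hy _ _ (g₁, g₂) hmem ?_ ?_]
    · have : res I ((χ ≫ ω ≫ j) ≫ g) ℓ - res I ((χ ≫ ω ≫ j) ≫ v ≫ e) (ρ' (g₁, g₂)) =
          app i y (res _ χ f) := by
        rw [app_res, hf, map_sub, ← res_comp, ← res_comp]
        simp only [u₀, Category.assoc]
      rw [this, valI_app]
      exact hW₃ y hy χ hχ
    · have := congrArg (χ ≫ ·) e₁
      simp only [u₀, Category.assoc] at this ⊢
      exact this
    · have := congrArg (χ ≫ ·) e₂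
      simp only [u₀, Category.assoc] at this ⊢
      exact this
  -- the correction of a lift
  have hsec : ∀ (ξ : 𝒢.obj) (a b : ξ ⟶ x) (ℓ : sec I ξ), ∃ s : sec (cF M 𝒢) ξ,
      app π ξ ℓ = c ξ a b → ∀ y hy φ,
        evAt hp hy φ s = ((X₂.G.card : ℚ)⁻¹) • ∑ᶠ u, Δ a b ℓ y hy φ u := by
    intro ξ a b ℓ
    by_cases h : app π ξ ℓ = c ξ a b
    · obtain ⟨s, hs⟩ := hreal a b ℓ h
      exact ⟨s, fun _ => hs⟩
    · exact ⟨0, fun h' => absurd h' h⟩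
  choose S hS' using hsec
  let D : ∀ {ξ : 𝒢.obj} (_ _ : ξ ⟶ x) (_ : sec I ξ), sec I ξ := fun {ξ} a b ℓ =>
    ℓ - app i ξ (S _ a b ℓ)
  have hDres : ∀ {ξ η : 𝒢.obj} (f : η ⟶ ξ) (a b : ξ ⟶ x) (ℓ : sec I ξ), app π ξ ℓ = c ξ a b →
      res I f (D a b ℓ) = D (f ≫ a) (f ≫ b) (res I f ℓ) := by
    intro ξ η f a b ℓ hℓ
    have hℓ' : app π η (res I f ℓ) = c η (f ≫ a) (f ≫ b) := by rw [app_res, hℓ, hn]
    simp only [D]
    rw [map_sub, ← app_res]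
    refine congrArg (fun s => res I f ℓ - app i η s) (sec_eq_of_evAt hp fun y hy φ => ?_)
    rw [evAt_res, hS' _ a b ℓ hℓ, hS' _ _ _ _ hℓ']
    refine congrArg _ (finsum_congr fun u => ?_)
    simp only [Δ, Category.assoc, res_comp]
  have hDind : ∀ {ξ : 𝒢.obj} (a b : ξ ⟶ x) (ℓ ℓ' : sec I ξ), app π ξ ℓ = c ξ a b →
      app π ξ ℓ' = c ξ a b → D a b ℓ = D a b ℓ' := by
    intro ξ a b ℓ ℓ' hℓ hℓ'
    obtain ⟨f, hf⟩ := exists_of_app_eq_zero w hS (x := ξ) (s := ℓ' - ℓ) (by rw [map_sub, hℓ, hℓ', sub_self])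
    obtain rfl : ℓ' = ℓ + app i ξ f := by rw [hf]; abel
    have : S _ a b (ℓ + app i ξ f) = S _ a b ℓ + f := by
      refine sec_eq_of_evAt hp fun y hy φ => ?_
      rw [map_add, hS' _ a b ℓ hℓ, hS' _ a b _ hℓ']
      have key : ∀ u, Δ a b (ℓ + app i ξ f) y hy φ u = Δ a b ℓ y hy φ u + evAt hp hy φ f := by
        intro u
        obtain ⟨p, hp', h1, h2⟩ := hpair a b y hy φ u
        rw [hΔ a b _ y hy φ u p hp' h1 h2, hΔ a b _ y hy φ u p hp' h1 h2, map_add, ← app_res,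
          add_sub_right_comm]
        exact valI_add hger hS hy (hπ hℓ φ u p hp' h1 h2) _
      rw [finsum_congr key, finsum_add hger X₂ hy, finsum_const hger X₂ hy, smul_add,
        ← Nat.cast_smul_eq_nsmul ℚ, inv_smul_smul₀]
      exact_mod_cast (card_pos hger hx₂ X₂).ne'
    simp only [D, this, map_add]
    abel
  -- gluing
  have hglue : ∀ ξ (a b : ξ ⟶ x), ∃ t : sec I ξ, ∀ ⦃η : 𝒢.obj⦄ (φ : η ⟶ ξ) (ℓ : sec I η),
      app π η ℓ = c η (φ ≫ a) (φ ≫ b) → res I φ t = D (φ ≫ a) (φ ≫ b) ℓ := by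
    intro ξ a b
    obtain ⟨Rl, hRl', hl⟩ := exists_local_lift w hS (c ξ a b)
    choose ℓ hℓ using hl
    have hℓ' : ∀ ⦃η : 𝒢.obj⦄ (φ : η ⟶ ξ) (h : Rl φ), app π η (ℓ φ h) = c η (φ ≫ a) (φ ≫ b) :=
      fun η φ h => by rw [hℓ φ h, hn]
    obtain ⟨t, ht⟩ := sec_glue I hRl' (fun η φ h => D (φ ≫ a) (φ ≫ b) (ℓ φ h))
      (fun η ζ φ g h hg => by
        rw [hDres g _ _ _ (hℓ' φ h)]
        simp only [← Category.assoc]
        exact hDind _ _ _ _ (by rw [app_res, hℓ' φ h, hn, Category.assoc, Category.assoc])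
          (by rw [hℓ' (g ≫ φ) hg]))
    refine ⟨t, fun η φ l hl => sec_ext I ((StCoh.J K₀ 𝒢).pullback_stable φ hRl') fun ζ g hg => ?_⟩
    rw [← res_comp, ht (g ≫ φ) hg, hDres g _ _ _ hl]
    simp only [← Category.assoc]
    exact hDind _ _ _ _ (by rw [hℓ' (g ≫ φ) hg])
      (by rw [app_res, hl, hn, Category.assoc, Category.assoc])
  choose d hd using hglue
  refine ⟨d, fun ξ η f a b => ?_, fun ξ a b => ?_⟩
  · obtain ⟨Rl, hRl', hl⟩ := exists_local_lift w hS (c η (f ≫ a) (f ≫ b))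
    refine sec_ext I hRl' fun ζ g hg => ?_
    obtain ⟨l, hl'⟩ := hl g hg
    rw [hn] at hl'
    rw [← res_comp, hd ξ a b (g ≫ f) l (by simpa only [Category.assoc] using hl'),
      hd η (f ≫ a) (f ≫ b) g l hl']
    simp only [Category.assoc]
  · obtain ⟨Rl, hRl', hl⟩ := exists_local_lift w hS (c ξ a b)
    refine sec_ext Q hRl' fun ζ g hg => ?_
    obtain ⟨l, hl'⟩ := hl g hg
    rw [hn] at hl'
    rw [← app_res, hd ξ a b g l hl', hn]
    simp only [D, map_sub, app_comp_eq_zero w, sub_zero, hl']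

omit hS

theorem subsingleton_H2_cF
    (hI : AlgSt.RepByAlgSpWith AlgSp.IsFiniteMor (FibCat.inertiaToBase (FibCat.toSelf 𝒢))) :
    Subsingleton (StCoh.H K₀ (cF M 𝒢) 2) := by
  obtain ⟨I, Q, i, π, w, hinj, hS⟩ := exists_injective_seq (cF M 𝒢)
  refine subsingleton_H2 w hS ?_
  obtain ⟨J, R, j, ρ, w', hinj', hS'⟩ := exists_injective_seq Q
  refine subsingleton_H1 w' hS' fun r => ?_
  have hp := hger.1.1
  obtain ⟨x₀, hx₀⟩ := exists_finObj hger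
  obtain ⟨Rl, hRl, hlift⟩ := exists_local_lift w' hS' (r.1 x₀)
  obtain ⟨x, φ, hφ, hx⟩ := exists_finObj_member hp hx₀ hRl
  obtain ⟨l, hl⟩ := hlift φ hφ
  rw [r.2] at hl
  obtain ⟨c, hc, hcn, hcc⟩ := exists_diff hger hS' r l hl
  obtain ⟨d, hdn, hd⟩ := exists_lift_pairs hger hS hI hx c hcn
  have he : ∀ (ξ : 𝒢.obj) (a b f : ξ ⟶ x), ∃ e : sec (cF M 𝒢) ξ,
      app i ξ e = d ξ a b + d ξ b f - d ξ a f := fun ξ a b f =>
    exists_of_app_eq_zero w hS (by rw [map_sub, map_add, hd, hd, hd, hcc, sub_self])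
  choose e he using he
  have hen : ∀ ξ η (g : η ⟶ ξ) a b f,
      res _ g (e ξ a b f) = e η (g ≫ a) (g ≫ b) (g ≫ f) := fun ξ η g a b f =>
    app_injective w hS η (by rw [app_res, he, he, map_sub, map_add, hdn, hdn, hdn])
  have hcoc : ∀ ξ (a b f g : ξ ⟶ x), e ξ b f g - e ξ a f g + e ξ a b g = e ξ a b f :=
    fun ξ a b f g => app_injective w hS ξ (by
      rw [map_add, map_sub, he, he, he, he]; abel)
  obtain ⟨X⟩ := exists_split hger hI hx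
  let E : ∀ (y : 𝒢.obj), ACObj y → (y ⟶ x) → (y ⟶ x) → (y ⟶ x) → M := fun y hy a b f =>
    evAt hp hy (𝟙 y) (e y a b f)
  have hE : ∀ {ξ y : 𝒢.obj} (hy : ACObj y) (g : y ⟶ ξ) (a b f : ξ ⟶ x),
      evAt hp hy g (e ξ a b f) = E y hy (g ≫ a) (g ≫ b) (g ≫ f) := by
    intro ξ y hy g a b f
    change _ = evAt hp hy (𝟙 y) _
    rw [← hen, evAt_res, Category.id_comp]
  have hh : ∀ (ξ : 𝒢.obj) (a b : ξ ⟶ x), ∃ s : sec (cF M 𝒢) ξ, ∀ y hy (g : y ⟶ ξ),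
      evAt hp hy g s = ((X.G.card : ℚ)⁻¹) • ∑ᶠ u, E y hy (g ≫ a) (g ≫ b) u := fun ξ a b => by
    refine (realised_finsum hger X _ fun η g v q _ => ?_).map hp
      (DistribSMul.toAddMonoidHom M ((X.G.card : ℚ)⁻¹))
    refine (realised_evAt hp (e η (g ≫ a) (g ≫ b) (v ≫ q))).congr hp fun y hy φ => ?_
    rw [hE hy φ]
    simp only [Category.assoc]
  choose h hh using hh
  have hhn : ∀ ξ η (g : η ⟶ ξ) a b, res _ g (h ξ a b) = h η (g ≫ a) (g ≫ b) := fun ξ η g a b =>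
    sec_eq_of_evAt hp fun y hy φ => by
      rw [evAt_res, hh, hh]
      simp only [Category.assoc]
  have hkey : ∀ ξ (a b f : ξ ⟶ x), e ξ a b f = h ξ b f - h ξ a f + h ξ a b := fun ξ a b f =>
    sec_eq_of_evAt hp fun y hy g => by
      rw [map_add, map_sub, hh, hh, hh, ← smul_sub, ← smul_add, ← finsum_sub hger X hy,
        ← finsum_add hger X hy, hE hy g]
      have : ∀ u, E y hy (g ≫ b) (g ≫ f) u - E y hy (g ≫ a) (g ≫ f) u + E y hy (g ≫ a) (g ≫ b) u =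
          E y hy (g ≫ a) (g ≫ b) (g ≫ f) := fun u => by
        change evAt hp hy _ _ - evAt hp hy _ _ + evAt hp hy _ _ = evAt hp hy _ _
        rw [← map_sub, ← map_add, hcoc]
      rw [finsum_congr this, finsum_const hger X hy, ← Nat.cast_smul_eq_nsmul ℚ, inv_smul_smul₀]
      exact_mod_cast (card_pos hger hx X).ne'
  let d' : ∀ ξ : 𝒢.obj, (ξ ⟶ x) → (ξ ⟶ x) → sec I ξ := fun ξ a b => d ξ a b - app i ξ (h ξ a b)
  obtain ⟨t, ht⟩ := exists_primitive I x d'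
    (fun ξ η g a b => by simp only [d']; rw [map_sub, hdn, ← app_res, hhn])
    (fun ξ a b f => by
      have h1 := he ξ a b f
      rw [hkey, map_add, map_sub] at h1
      have h2 := sub_eq_zero.2 h1.symm
      simp only [d']
      rw [← sub_eq_zero]
      exact Eq.trans (by abel) h2)
  let l' := l - app j x (app π x t)
  have hl' : ∀ (ξ : 𝒢.obj) (a b : ξ ⟶ x), res J a l' = res J b l' := by
    intro ξ a b
    have h1 : c ξ a b = res Q a (app π x t) - res Q b (app π x t) := by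
      rw [← hd, ← app_res, ← app_res, ← map_sub, ht]
      simp only [d', map_sub, app_comp_eq_zero w, sub_zero]
    have h2 := hc ξ a b
    rw [h1, map_sub, app_res, app_res] at h2
    simp only [l', map_sub]
    rw [sub_eq_sub_iff_sub_eq_sub]
    exact h2.symm
  obtain ⟨s, hs⟩ := exists_glob_of_eq J (fun ξ => hom_cover hger hx ξ) l' hl'
  refine ⟨s, fun ξ => ?_⟩
  let r' : Glob R := ⟨fun y => app ρ y (s.1 y), fun a b f => by rw [← app_res, s.2]⟩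
  have : r' = r := glob_ext R (fun ξ => hom_cover hger hx ξ) (x := x) (by
    change app ρ x (s.1 x) = _
    rw [hs]
    simp only [l', map_sub, app_comp_eq_zero w', sub_zero, hl])
  exact congrArg (fun q : Glob R => q.1 ξ) this

end Groth.Agent.H14GerbeCoh
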