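import Groth.Agent.H14GerbeCoh.Hom
import Mathlib.CategoryTheory.Sites.LocallyBijective

/-!
# Values of sections of a constant sheaf at geometric objects
-/

set_option autoImplicit false
set_option backward.isDefEq.respectTransparency false
set_option backward.isDefEq.respectTransparency.types false

universe u

open CategoryTheory CategoryTheory.Limits AlgebraicGeometry Opposite

noncomputable section

namespace Groth.Agent.H14GerbeCoh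

variable {k : Type u} [Field k] {𝒢 : AlgSt.Cat (Spec (CommRingCat.of k))} {M : Type} [AddCommGroup M]

local notation "K₀" => Scheme.fppfPrecoverage

variable (M) in
/-- The constant sheaf. -/
abbrev cF (𝒢 : AlgSt.Cat (Spec (CommRingCat.of k))) : StCoh.Ab K₀ 𝒢 := StCoh.const K₀ 𝒢 M

variable (M 𝒢) in
/-- The constant presheaf. -/
abbrev cP : 𝒢.objᵒᵖ ⥤ AddCommGrpCat.{u + 1} :=
  (Functor.const _).obj (AddCommGrpCat.of (ULift.{u + 1} M))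

/-- Constant sections. -/
def cst (x : 𝒢.obj) : M →+ sec (cF M 𝒢) x :=
  ((toSheafify (StCoh.J K₀ 𝒢) (cP 𝒢 M)).app (op x)).hom.comp AddEquiv.ulift.symm.toAddMonoidHom

lemma res_cst {x y : 𝒢.obj} (f : y ⟶ x) (m : M) : res (cF M 𝒢) f (cst x m) = cst y m :=
  (ConcreteCategory.congr_hom ((toSheafify (StCoh.J K₀ 𝒢) (cP 𝒢 M)).naturality f.op)
    (AddEquiv.ulift.symm m)).symm

lemma locally_cst {x : 𝒢.obj} (s : sec (cF M 𝒢) x) :
    ∃ R ∈ StCoh.J K₀ 𝒢 x, ∀ ⦃η : 𝒢.obj⦄ (φ : η ⟶ x), R φ → ∃ m, res _ φ s = cst η m := by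
  have h := (GrothendieckTopology.W_iff_isLocallyBijective (A := AddCommGrpCat.{u + 1})
    (StCoh.J K₀ 𝒢) _).1 ((StCoh.J K₀ 𝒢).W_toSheafify (cP 𝒢 M))
  have := h.2
  refine ⟨_, Presheaf.imageSieve_mem (StCoh.J K₀ 𝒢) (toSheafify (StCoh.J K₀ 𝒢) (cP 𝒢 M)) s,
    fun η φ ⟨m, hm⟩ => ⟨(m : ULift.{u + 1} M).down, ?_⟩⟩
  exact hm.symm

lemma cst_injective (hp : FibCat.IsFibGrpd 𝒢.p) {x : 𝒢.obj} (hne : Nonempty (𝒢.p.obj x).left) :
    Function.Injective (cst (M := M) x) := by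
  intro m m' e
  have h := (GrothendieckTopology.W_iff_isLocallyBijective (A := AddCommGrpCat.{u + 1})
    (StCoh.J K₀ 𝒢) _).1 ((StCoh.J K₀ 𝒢).W_toSheafify (cP 𝒢 M))
  have := h.1
  obtain ⟨t⟩ := hne
  obtain ⟨η, φ, hφ, -⟩ := exists_member hp (Presheaf.equalizerSieve_mem (StCoh.J K₀ 𝒢)
    (toSheafify (StCoh.J K₀ 𝒢) (cP 𝒢 M)) (X := op x) (AddEquiv.ulift.symm m)
    (AddEquiv.ulift.symm m') e) t
  exact congrArg ULift.down hφ

lemma sec_subsingleton_of_isEmpty (hp : FibCat.IsFibGrpd 𝒢.p) (F : StCoh.Ab K₀ 𝒢) {x : 𝒢.obj}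
    (he : IsEmpty (𝒢.p.obj x).left) (s t : sec F x) : s = t :=
  sec_ext F (R := ⊥) (mem_of_members hp fun z => he.elim z) fun _ _ h => h.elim

lemma cst_surjective_ac (hp : FibCat.IsFibGrpd 𝒢.p) {y : 𝒢.obj} (hy : ACObj y) :
    Function.Surjective (cst (M := M) y) := fun s => by
  obtain ⟨R, hR, h⟩ := locally_cst s
  obtain ⟨m, hm⟩ := h _ (id_mem hp hy hR)
  exact ⟨m, by rw [← hm, res_id]⟩

variable (hp : FibCat.IsFibGrpd 𝒢.p)
include hp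

/-- The value at a geometric object. -/
def ev {y : 𝒢.obj} (hy : ACObj y) : sec (cF M 𝒢) y →+ M :=
  (AddEquiv.ofBijective (cst y)
    ⟨cst_injective hp hy.nonempty, cst_surjective_ac hp hy⟩).symm.toAddMonoidHom

lemma ev_cst {y : 𝒢.obj} (hy : ACObj y) (m : M) : ev hp hy (cst y m) = m :=
  (AddEquiv.ofBijective (cst y)
    ⟨cst_injective hp hy.nonempty, cst_surjective_ac hp hy⟩).symm_apply_apply m

/-- The value at a geometric point. -/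
def evAt {ξ y : 𝒢.obj} (hy : ACObj y) (φ : y ⟶ ξ) : sec (cF M 𝒢) ξ →+ M :=
  (ev hp hy).comp (res _ φ)

lemma evAt_res {ξ η y : 𝒢.obj} (hy : ACObj y) (φ : y ⟶ η) (g : η ⟶ ξ) (s : sec (cF M 𝒢) ξ) :
    evAt hp hy φ (res _ g s) = evAt hp hy (φ ≫ g) s := by
  change ev hp hy (res _ φ (res _ g s)) = ev hp hy (res _ (φ ≫ g) s)
  rw [res_comp]

lemma evAt_comp {ξ y y' : 𝒢.obj} (hy : ACObj y) (hy' : ACObj y') (φ : y ⟶ ξ) (u : y' ⟶ y)
    (s : sec (cF M 𝒢) ξ) : evAt hp hy' (u ≫ φ) s = evAt hp hy φ s := by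
  obtain ⟨m, hm⟩ := cst_surjective_ac hp hy (res _ φ s)
  change ev hp hy' (res _ (u ≫ φ) s) = ev hp hy (res _ φ s)
  rw [res_comp, ← hm, res_cst, ev_cst, ev_cst]

lemma evAt_cst {ξ y : 𝒢.obj} (hy : ACObj y) (φ : y ⟶ ξ) (m : M) :
    evAt hp hy φ (cst ξ m) = m := by
  change ev hp hy (res _ φ (cst ξ m)) = m
  rw [res_cst, ev_cst]

/-- A section is determined by its values. -/
lemma sec_eq_of_evAt {ξ : 𝒢.obj} {s t : sec (cF M 𝒢) ξ}
    (h : ∀ (y : 𝒢.obj) (hy : ACObj y) (φ : y ⟶ ξ), evAt hp hy φ s = evAt hp hy φ t) : s = t := by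
  rw [← sub_eq_zero]
  obtain ⟨R, hR, hR'⟩ := locally_cst (s - t)
  refine sec_ext _ hR fun η g hg => ?_
  rw [map_zero]
  by_cases hne : Nonempty (𝒢.p.obj η).left
  · obtain ⟨m, hm⟩ := hR' g hg
    obtain ⟨z⟩ := hne
    obtain ⟨y, φ, hy, -⟩ := exists_acObj_hom hp z
    have : m = 0 := by
      rw [← evAt_cst hp hy φ m, ← hm, evAt_res, map_sub, h, sub_self]
    rw [hm, this, map_zero]
  · exact sec_subsingleton_of_isEmpty hp _ (not_nonempty_iff.1 hne) _ _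

/-- Sections have open level sets. -/
lemma exists_open_level {ξ : 𝒢.obj} (s : sec (cF M 𝒢) ξ) (t : (𝒢.p.obj ξ).left) :
    ∃ (W : (𝒢.p.obj ξ).left.Opens) (m : M), t ∈ W ∧ ∀ (y : 𝒢.obj) (hy : ACObj y) (φ : y ⟶ ξ),
      (∀ z, (𝒢.p.map φ).left z ∈ W) → evAt hp hy φ s = m := by
  obtain ⟨R, hR, hR'⟩ := locally_cst s
  obtain ⟨η, g, hg, h1, h2, ht⟩ := exists_member hp hR t
  obtain ⟨m, hm⟩ := hR' g hg
  refine ⟨⟨_, (𝒢.p.map g).left.isOpenMap.isOpen_range⟩, m, ht, fun y hy φ hφ => ?_⟩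
  obtain ⟨χ, rfl⟩ := exists_factor hp hy φ g hφ
  rw [← evAt_res, hm, evAt_cst]

lemma exists_cst_of_finObj {x : 𝒢.obj} (hx : FinObj x) (s : sec (cF M 𝒢) x) :
    ∃ m, s = cst x m := by
  obtain ⟨t⟩ := hx.nonempty
  obtain ⟨W, m, ht, h⟩ := exists_open_level hp s t
  refine ⟨m, sec_eq_of_evAt hp fun y hy φ => ?_⟩
  have := hx.subsingleton
  rw [evAt_cst]
  exact h y hy φ fun z => by rw [Subsingleton.elim ((𝒢.p.map φ).left z) t]; exact ht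

/-- A function of geometric points which is given by a section. -/
def Realised {ξ : 𝒢.obj} (Φ : ∀ y : 𝒢.obj, ACObj y → (y ⟶ ξ) → M) : Prop :=
  ∃ s : sec (cF M 𝒢) ξ, ∀ (y : 𝒢.obj) (hy : ACObj y) (φ : y ⟶ ξ), evAt hp hy φ s = Φ y hy φ

lemma realised_evAt {ξ : 𝒢.obj} (s : sec (cF M 𝒢) ξ) :
    Realised hp (fun _ hy (φ : _ ⟶ ξ) => evAt hp hy φ s) := ⟨s, fun _ _ _ => rfl⟩

lemma Realised.congr {ξ : 𝒢.obj} {Φ Ψ : ∀ y : 𝒢.obj, ACObj y → (y ⟶ ξ) → M}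
    (h : Realised hp Φ) (e : ∀ y hy φ, Φ y hy φ = Ψ y hy φ) : Realised hp Ψ :=
  let ⟨s, hs⟩ := h
  ⟨s, fun y hy φ => (hs y hy φ).trans (e y hy φ)⟩

lemma realised_sum {ξ : 𝒢.obj} {ι : Type*} (S : Finset ι)
    {Φ : ι → ∀ y : 𝒢.obj, ACObj y → (y ⟶ ξ) → M} (h : ∀ i ∈ S, Realised hp (Φ i)) :
    Realised hp (fun y hy φ => ∑ i ∈ S, Φ i y hy φ) := by
  choose s hs using h
  refine ⟨∑ i ∈ S.attach, s i.1 i.2, fun y hy φ => ?_⟩
  beta_reduce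
  rw [map_sum, ← Finset.sum_attach S]
  exact Finset.sum_congr rfl fun i _ => hs i.1 i.2 y hy φ

lemma realised_of_cover {ξ : 𝒢.obj} {Φ : ∀ y : 𝒢.obj, ACObj y → (y ⟶ ξ) → M} {R : Sieve ξ}
    (hR : R ∈ StCoh.J K₀ 𝒢 ξ) (h : ∀ ⦃η : 𝒢.obj⦄ (g : η ⟶ ξ), R g →
      Realised hp (fun y hy φ => Φ y hy (φ ≫ g))) : Realised hp Φ := by
  choose s hs using h
  obtain ⟨t, ht⟩ := sec_glue (cF M 𝒢) hR s (fun η ζ g g' hg hg' => sec_eq_of_evAt hp fun y hy φ => by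
    rw [evAt_res, hs, hs]
    beta_reduce
    rw [Category.assoc])
  refine ⟨t, fun y hy φ => ?_⟩
  have h1 := hs φ (by
    have := id_mem hp hy ((StCoh.J K₀ 𝒢).pullback_stable φ hR)
    rwa [Sieve.pullback_apply, Category.id_comp] at this) y hy (𝟙 y)
  rw [← ht φ, evAt_res, Category.id_comp] at h1
  rw [h1]
  beta_reduce
  rw [Category.id_comp]

lemma realised_of_locally_const {ξ : 𝒢.obj} {Φ : ∀ y : 𝒢.obj, ACObj y → (y ⟶ ξ) → M}
    (h : ∀ t : (𝒢.p.obj ξ).left, ∃ (W : (𝒢.p.obj ξ).left.Opens) (m : M), t ∈ W ∧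
      ∀ (y : 𝒢.obj) (hy : ACObj y) (φ : y ⟶ ξ), (∀ z, (𝒢.p.map φ).left z ∈ W) →
        Φ y hy φ = m) : Realised hp Φ := by
  choose W m ht hW using h
  let R : Sieve ξ :=
    { arrows := fun η g => ∃ t, ∀ z, (𝒢.p.map g).left z ∈ W t
      downward_closed := by
        rintro η η' g ⟨t, ht⟩ f
        exact ⟨t, fun z => by rw [𝒢.p.map_comp]; exact ht _⟩ }
  refine realised_of_cover hp (R := R) (mem_of_members hp fun t => ?_) ?_
  · obtain ⟨η, g, hg⟩ := exists_pullObj' hp ξ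
      (Over.homMk (U := Over.mk ((W t).ι ≫ (𝒢.p.obj ξ).hom)) (W t).ι rfl)
    obtain ⟨h1, h2, h3⟩ := hg (fun V q => (∀ z, q.left z ∈ W t) ∧
      (Flat q.left ∧ LocallyOfFinitePresentation q.left) ∧ t ∈ Set.range q.left)
      ⟨fun z => Subtype.prop z, ⟨inferInstanceAs (Flat (W t).ι),
        inferInstanceAs (LocallyOfFinitePresentation (W t).ι)⟩, ⟨⟨t, ht t⟩, rfl⟩⟩
    exact ⟨η, g, ⟨t, h1⟩, h2.1, h2.2, h3⟩
  · rintro η g ⟨t, hg⟩
    refine ⟨cst η (m t), fun y hy φ => ?_⟩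
    beta_reduce
    rw [evAt_cst, hW t y hy (φ ≫ g) fun z => by rw [𝒢.p.map_comp]; exact hg _]

lemma Realised.map {ξ : 𝒢.obj} {Φ : ∀ y : 𝒢.obj, ACObj y → (y ⟶ ξ) → M} (h : Realised hp Φ)
    (ψ : M →+ M) : Realised hp (fun y hy φ => ψ (Φ y hy φ)) := by
  obtain ⟨s, hs⟩ := h
  let ψ' : ULift.{u + 1} M →+ ULift.{u + 1} M :=
    AddEquiv.ulift.symm.toAddMonoidHom.comp (ψ.comp AddEquiv.ulift.toAddMonoidHom)
  let Ψ : cF M 𝒢 ⟶ cF M 𝒢 := (constantSheaf (StCoh.J K₀ 𝒢) AddCommGrpCat.{u + 1}).map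
    (AddCommGrpCat.ofHom ψ')
  have hΨ : ∀ (x : 𝒢.obj) (m : M), app Ψ x (cst x m) = cst x (ψ m) := fun x m =>
    (ConcreteCategory.congr_hom (congrArg (fun n => NatTrans.app n (op x))
      (toSheafify_naturality (StCoh.J K₀ 𝒢) ((Functor.const 𝒢.objᵒᵖ).map
        (AddCommGrpCat.ofHom ψ')))) (AddEquiv.ulift.symm m)).symm
  refine ⟨app Ψ ξ s, fun y hy φ => ?_⟩
  obtain ⟨m, hm⟩ := cst_surjective_ac hp hy (res _ φ s)
  beta_reduce
  rw [← hs y hy φ]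
  change ev hp hy (res _ φ (app Ψ ξ s)) = ψ (ev hp hy (res _ φ s))
  rw [← app_res, ← hm, hΨ, ev_cst, ev_cst]

end Groth.Agent.H14GerbeCoh
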